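import Mathlib
import Groth.Agent.Lib.Dim.Ring
import Groth.Agent.Lib.AffDom.Formula
import Groth.Prelude.Def_W4c2ratcurvhypCodim

/-!
Codimension through the number of algebraically independent coordinates of the generic points.
-/

set_option autoImplicit false

namespace GrothLib.RegSeqGen12

open MvPolynomial

universe u

variable {k : Type u} [Field k] {K : Type u} [Field K] [Algebra k K]

variable (k) in
/-- the elements algebraic over `k(T)` -/
noncomputable def closureOf (T : Set K) : IntermediateField k K :=
  (algebraicClosure (IntermediateField.adjoin k T) K).restrictScalars k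

theorem subset_closureOf {T : Set K} {x : K} (h : x ∈ T) : x ∈ closureOf k T :=
  IntermediateField.mem_restrictScalars k |>.mpr (mem_algebraicClosure_iff.mpr
    (isAlgebraic_algebraMap (⟨x, IntermediateField.subset_adjoin k T h⟩ : IntermediateField.adjoin k T)))

theorem mem_closureOf_of_isAlgebraic {T : Set K} {x : K} (h : IsAlgebraic (closureOf k T) x) : x ∈ closureOf k T := by
  have h' : IsAlgebraic (algebraicClosure (IntermediateField.adjoin k T) K) x := h
  exact IntermediateField.mem_restrictScalars k |>.mpr (mem_algebraicClosure_iff.mpr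
    (h'.restrictScalars (IntermediateField.adjoin k T)))

theorem trdeg_adjoin_le_card (T : Set K) : Algebra.trdeg k (IntermediateField.adjoin k T) ≤ Cardinal.mk T := by
  let E := IntermediateField.adjoin k T
  let s : Set E := Subtype.val ⁻¹' T
  have hs : Subtype.val '' s = T := by
    rw [Set.image_preimage_eq_inter_range, Subtype.range_coe_subtype, Set.inter_eq_left]
    exact fun x hx => IntermediateField.subset_adjoin k _ hx
  have htop : IntermediateField.adjoin k s = ⊤ := by
    apply IntermediateField.map_injective E.val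
    rw [IntermediateField.adjoin_map]
    change IntermediateField.adjoin k (Subtype.val '' s) = _
    rw [hs, ← AlgHom.fieldRange_eq_map, IntermediateField.fieldRange_val]
  have : Algebra.IsAlgebraic (IntermediateField.adjoin k s) E :=
    ⟨fun x => isAlgebraic_algebraMap (⟨x, htop ▸ IntermediateField.mem_top⟩ : IntermediateField.adjoin k s)⟩
  have := IntermediateField.isAlgebraic_adjoin_iff_top.mp this
  refine (Algebra.IsAlgebraic.trdeg_le_cardinalMk k s).trans ?_
  exact Cardinal.mk_le_of_injective (f := fun x : s => (⟨x.1.1, x.2⟩ : T))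
    (fun x y h => Subtype.ext (Subtype.ext (congrArg (fun z : T => z.1) h)))

theorem trdeg_closureOf_le (T : Set K) : Algebra.trdeg k (closureOf k T) ≤ Cardinal.mk T := by
  let E := IntermediateField.adjoin k T
  let L := algebraicClosure E K
  have : FaithfulSMul E L := (faithfulSMul_iff_algebraMap_injective _ _).mpr (algebraMap E L).injective
  have h : Algebra.trdeg k E + Algebra.trdeg E L = Algebra.trdeg k L := trdeg_add_eq k E (A := L)
  rw [trdeg_eq_zero (R := E) (A := L), add_zero] at h
  show Algebra.trdeg k L ≤ _
  rw [← h]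
  exact trdeg_adjoin_le_card T

/-- A point with all coordinates algebraic over a small set has a kernel of large height. -/
theorem le_height_ker {ι : Type} [Fintype ι] (x : ι → K) (T : Finset K) (c : ℕ)
    (hT : T.card + c ≤ Fintype.card ι) (hx : ∀ i, x i ∈ closureOf k (T : Set K)) :
    (c : ℕ∞) ≤ (RingHom.ker (aeval (R := k) x).toRingHom).height := by
  set p := RingHom.ker (aeval (R := k) x).toRingHom with hp
  have : p.IsPrime := RingHom.ker_isPrime _
  let A := MvPolynomial ι k ⧸ p
  let L := closureOf k (T : Set K)
  let f : A →ₐ[k] L := Ideal.Quotient.liftₐ p (aeval fun i => (⟨x i, hx i⟩ : L)) fun a ha => by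
    apply Subtype.ext
    have h1 : L.val.comp (aeval fun i => (⟨x i, hx i⟩ : L)) = aeval x := algHom_ext fun i => by simp
    show L.val (aeval (fun i => (⟨x i, hx i⟩ : L)) a) = 0
    rw [← AlgHom.comp_apply, h1]
    exact ha
  have hf : Function.Injective f := by
    rw [injective_iff_map_eq_zero]
    intro a ha
    obtain ⟨a, rfl⟩ := Ideal.Quotient.mk_surjective a
    rw [Ideal.Quotient.eq_zero_iff_mem]
    have h1 : L.val.comp (aeval fun i => (⟨x i, hx i⟩ : L)) = aeval x := algHom_ext fun i => by simp
    show aeval x a = 0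
    rw [← h1, AlgHom.comp_apply]
    have : aeval (fun i => (⟨x i, hx i⟩ : L)) a = 0 := ha
    rw [this, map_zero]
  have htr : Algebra.trdeg k A ≤ T.card := by
    refine (trdeg_le_of_injective f hf).trans ((trdeg_closureOf_le _).trans ?_)
    simp
  obtain ⟨n, hn, hdim⟩ := GrothLib.Dim.exists_nat_trdeg_eq_and_ringKrullDim_eq k A
  have hnT : n ≤ T.card := by rw [hn] at htr; exact_mod_cast htr
  have htot := GrothLib.AffDom.height_add_ringKrullDim_quotient k (MvPolynomial ι k) p
  rw [show ringKrullDim (MvPolynomial ι k ⧸ p) = ringKrullDim A from rfl, hdim, MvPolynomial.ringKrullDim_of_isNoetherianRing,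
    ringKrullDim_eq_zero_of_field, zero_add, Nat.card_eq_fintype_card] at htot
  obtain ⟨a, ha⟩ := ENat.ne_top_iff_exists.mp (Ideal.height_ne_top (I := p) Ideal.IsPrime.ne_top')
  rw [← ha] at htot ⊢
  have : a + n = Fintype.card ι := by exact_mod_cast htot
  exact_mod_cast (show c ≤ a by omega)

/-- independent elements are at most as many as the elements they are algebraic over -/
theorem card_le_of_mem_closureOf {ι : Type} [Fintype ι] {x : ι → K} (hx : AlgebraicIndependent k x) (T : Finset K)
    (h : ∀ i, x i ∈ closureOf k (T : Set K)) : Fintype.card ι ≤ T.card := by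
  have h1 : AlgebraicIndependent k fun i => (⟨x i, h i⟩ : closureOf k (T : Set K)) :=
    AlgebraicIndependent.of_comp (closureOf k (T : Set K)).val hx
  have h2 := h1.lift_cardinalMk_le_trdeg.trans (Cardinal.lift_le.mpr (trdeg_closureOf_le (k := k) (T : Set K)))
  simpa using h2

/-- every prime is the kernel of a point over an algebraically closed extension -/
theorem exists_point {ι : Type} (p : Ideal (MvPolynomial ι k)) [p.IsPrime] :
    ∃ (Ω : Type u) (_ : Field Ω) (_ : Algebra k Ω) (_ : IsAlgClosed Ω) (x : ι → Ω),
      RingHom.ker (aeval (R := k) x).toRingHom = p := by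
  let A := MvPolynomial ι k ⧸ p
  let Ω := AlgebraicClosure (FractionRing A)
  refine ⟨Ω, inferInstance, ((algebraMap A Ω).comp (algebraMap k A)).toAlgebra, inferInstance,
    fun i => algebraMap A Ω (Ideal.Quotient.mk p (X i)), ?_⟩
  letI : Algebra k Ω := ((algebraMap A Ω).comp (algebraMap k A)).toAlgebra
  have h : (aeval (R := k) fun i => algebraMap A Ω (Ideal.Quotient.mk p (X i))).toRingHom =
      (algebraMap A Ω).comp (Ideal.Quotient.mk p) := by
    refine MvPolynomial.ringHom_ext (fun r => ?_) fun i => ?_
    · simp [RingHom.algebraMap_toAlgebra]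
      rfl
    · simp
  rw [h, ← RingHom.comap_ker, (RingHom.injective_iff_ker_eq_bot _).mp, ← RingHom.ker_eq_comap_bot, Ideal.mk_ker]
  rw [IsScalarTower.algebraMap_eq A (FractionRing A) Ω]
  exact (algebraMap (FractionRing A) Ω).injective.comp (IsFractionRing.injective A (FractionRing A))

/-- Codimension, checked at the primes of the coordinate ring. -/
theorem codimGE_of [Infinite k] {ι : Type} [Fintype ι] {V : Type u} [AddCommGroup V] [Module k V]
    (e : V ≃ₗ[k] (ι → k)) (D : Set V) (c : ℕ)
    (h : ∀ p : Ideal (MvPolynomial ι k), p.IsPrime → (∀ f, (∀ v ∈ D, eval (e v) f = 0) → f ∈ p) → (c : ℕ∞) ≤ p.height) :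
    LefPen.CodimGE k D c := by
  classical
  let φ : MvPolynomial ι k →ₐ[k] (V → k) := aeval fun (i : ι) (v : V) => e v i
  have hφ : ∀ f v, φ f v = eval (e v) f := fun f v => by
    have : (Pi.evalAlgHom k (fun _ : V => k) v).comp φ = aeval (e v) := algHom_ext fun i => by simp [φ]
    exact congr($this f)
  have hinj : Function.Injective φ := fun f g hfg => MvPolynomial.funext fun x => by
    have := congrFun hfg (e.symm x)
    simpa [hφ] using this
  have hrange : φ.range = LefPen.polyFunAlg k V := by
    refine le_antisymm ?_ (Algebra.adjoin_le ?_)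
    · rw [← Algebra.adjoin_range_eq_range_aeval]
      refine Algebra.adjoin_mono ?_
      rintro _ ⟨i, rfl⟩
      exact ⟨(LinearMap.proj i).comp e.toLinearMap, rfl⟩
    · rintro _ ⟨l, rfl⟩
      refine ⟨∑ i, C (l (e.symm (Pi.single i 1))) * X i, funext fun v => ?_⟩
      show φ _ v = l v
      rw [hφ, map_sum]
      conv_rhs => rw [← e.symm_apply_apply v, pi_eq_sum_univ' (e v), map_sum, map_sum]
      refine Finset.sum_congr rfl fun i _ => ?_
      rw [map_mul, eval_C, eval_X, map_smul, map_smul, smul_eq_mul, mul_comm]
  let E : MvPolynomial ι k ≃ₐ[k] LefPen.polyFunAlg k V :=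
    (AlgEquiv.ofInjective φ hinj).trans (Subalgebra.equivOfEq _ _ hrange)
  have hE : ∀ f, (E f).1 = φ f := fun f => rfl
  show (c : ℕ∞) ≤ (LefPen.vanishingFun k D).height
  rw [← RingEquiv.height_comap E.toRingEquiv, Ideal.height_eq_inf_minimalPrimes]
  refine le_iInf₂ fun p hp => h p hp.isPrime fun f hf => hp.1.2 fun v hv => ?_
  show (E f).1 v = 0
  rw [hE, hφ]
  exact hf v hv

end GrothLib.RegSeqGen12
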