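import Groth.Agent.Lib.RegSeqGen12.SeqLocus

/-!
Lines through a point of a hypersurface in an affine chart: the homogeneous parts of the shifted equation.
-/

set_option autoImplicit false
set_option maxHeartbeats 400000

namespace GrothLib.RegSeqGen12

open MvPolynomial

variable {m d : ℕ} (i₀ : Fin (m + 2))

/-- the substitution moving the point `y` of the chart `i₀` to the origin -/
noncomputable def deh {A : Type*} [CommRing A] (y : Fin (m + 1) → A) :
    MvPolynomial (Fin (m + 2)) A →ₐ[A] MvPolynomial (Fin (m + 1)) A :=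
  aeval (Fin.insertNth (α := fun _ => MvPolynomial (Fin (m + 1)) A) i₀ 1 fun c => X c + C (y c))

theorem deh_X_same {A : Type*} [CommRing A] (y : Fin (m + 1) → A) : deh i₀ y (X i₀) = 1 := by
  simp [deh]

theorem deh_X_succAbove {A : Type*} [CommRing A] (y : Fin (m + 1) → A) (c : Fin (m + 1)) :
    deh i₀ y (X (i₀.succAbove c)) = X c + C (y c) := by
  simp [deh]

theorem map_deh {A B : Type*} [CommRing A] [CommRing B] (φ : A →+* B) (y : Fin (m + 1) → A)
    (g : MvPolynomial (Fin (m + 2)) A) : map φ (deh i₀ y g) = deh i₀ (fun c => φ (y c)) (map φ g) := by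
  have h : (map φ).comp (deh i₀ y).toRingHom = (deh i₀ (fun c => φ (y c))).toRingHom.comp (map φ) := by
    refine ringHom_ext (fun a => by simp [deh]) fun i => ?_
    rcases Fin.eq_self_or_eq_succAbove i₀ i with rfl | ⟨c, rfl⟩
    · simp [deh_X_same]
    · simp [deh_X_succAbove]
  exact congr($h g)

theorem eval_deh {A : Type*} [CommRing A] (x y : Fin (m + 1) → A) (g : MvPolynomial (Fin (m + 2)) A) :
    eval x (deh i₀ y g) = eval (Fin.insertNth (α := fun _ => A) i₀ 1 fun c => x c + y c) g := by
  have h : (eval x).comp (deh i₀ y).toRingHom = eval (Fin.insertNth (α := fun _ => A) i₀ 1 fun c => x c + y c) := by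
    refine ringHom_ext (fun a => by simp [deh]) fun i => ?_
    rcases Fin.eq_self_or_eq_succAbove i₀ i with rfl | ⟨c, rfl⟩
    · simp [deh_X_same]
    · simp [deh_X_succAbove]
  exact congr($h g)

/-- the homogeneous parts of the shifted equation, indexed from degree one -/
noncomputable def lineForms {A : Type*} [CommRing A] (y : Fin (m + 1) → A) (g : MvPolynomial (Fin (m + 2)) A) (i : ℕ) :
    MvPolynomial (Fin (m + 1)) A :=
  homogeneousComponent (i + 1) (deh i₀ y g)

theorem lineForms_isHomogeneous {A : Type*} [CommRing A] (y : Fin (m + 1) → A) (g : MvPolynomial (Fin (m + 2)) A) (i : ℕ) :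
    (lineForms i₀ y g i).IsHomogeneous (i + 1) :=
  homogeneousComponent_isHomogeneous _ _

theorem map_lineForms {A B : Type*} [CommRing A] [CommRing B] (φ : A →+* B) (y : Fin (m + 1) → A)
    (g : MvPolynomial (Fin (m + 2)) A) (i : ℕ) :
    map φ (lineForms i₀ y g i) = lineForms i₀ (fun c => φ (y c)) (map φ g) i := by
  classical
  refine MvPolynomial.ext _ _ fun e => ?_
  simp only [lineForms, coeff_map, coeff_homogeneousComponent, ← map_deh]
  split_ifs <;> simp

/-- the equation with given coefficients -/
noncomputable def polyOf {A : Type*} [CommRing A] (z : Expo (m + 1) d → A) : MvPolynomial (Fin (m + 2)) A :=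
  ∑ c, monomial c.1 (z c)

theorem polyOf_isHomogeneous {A : Type*} [CommRing A] (z : Expo (m + 1) d → A) : (polyOf z).IsHomogeneous d :=
  IsHomogeneous.sum _ _ _ fun c _ => isHomogeneous_monomial _ (degree_expo c)

theorem coeff_polyOf {A : Type*} [CommRing A] (z : Expo (m + 1) d → A) (c : Expo (m + 1) d) :
    coeff c.1 (polyOf z) = z c := by
  classical
  rw [polyOf, coeff_sum, Finset.sum_eq_single c
    (fun b _ hb => by rw [coeff_monomial, if_neg fun h => hb (Subtype.ext h)]) (by simp), coeff_monomial, if_pos rfl]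

theorem map_polyOf {A B : Type*} [CommRing A] [CommRing B] (φ : A →+* B) (z : Expo (m + 1) d → A) :
    map φ (polyOf z) = polyOf fun c => φ (z c) := by
  simp [polyOf, map_sum]

/-- the exponent off the chart index -/
noncomputable def dehExp (c : Fin (m + 2) →₀ ℕ) : Fin (m + 1) →₀ ℕ :=
  Finsupp.equivFunOnFinite.symm fun j => c (i₀.succAbove j)

theorem dehExp_injective {c c' : Expo (m + 1) d} (h : dehExp i₀ c.1 = dehExp i₀ c'.1) : c = c' := by
  have hj : ∀ j, c.1 (i₀.succAbove j) = c'.1 (i₀.succAbove j) := fun j => congr($h j)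
  apply Subtype.ext
  refine Finsupp.ext fun i => ?_
  rcases Fin.eq_self_or_eq_succAbove i₀ i with rfl | ⟨j, rfl⟩
  · have h1 := degree_expo c
    have h2 := degree_expo c'
    rw [Finsupp.degree_eq_sum, Fin.sum_univ_succAbove _ i] at h1 h2
    simp only [hj] at h1
    omega
  · exact hj j

theorem deh_zero_monomial {A : Type*} [CommRing A] (c : Fin (m + 2) →₀ ℕ) (a : A) :
    deh i₀ 0 (monomial c a) = monomial (dehExp i₀ c) a := by
  rw [deh, aeval_monomial, Finsupp.prod_fintype _ _ (fun i => pow_zero _), Fin.prod_univ_succAbove _ i₀,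
    monomial_eq, Finsupp.prod_fintype _ _ (fun i => pow_zero _)]
  simp [dehExp]

theorem coeff_deh_zero_polyOf {A : Type*} [CommRing A] (z : Expo (m + 1) d → A) (c : Expo (m + 1) d) :
    coeff (dehExp i₀ c.1) (deh i₀ 0 (polyOf z)) = z c := by
  classical
  rw [polyOf, map_sum, coeff_sum]
  simp only [deh_zero_monomial, coeff_monomial]
  rw [Finset.sum_eq_single c (fun b _ hb => if_neg fun h => hb (dehExp_injective i₀ h)) (by simp), if_pos rfl]

theorem totalDegree_deh_le {A : Type*} [CommRing A] [Nontrivial A] (y : Fin (m + 1) → A) (z : Expo (m + 1) d → A) :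
    (deh i₀ y (polyOf z)).totalDegree ≤ d := by
  rw [polyOf, map_sum]
  refine totalDegree_finsetSum_le fun c _ => ?_
  rw [deh, aeval_monomial, Finsupp.prod_fintype _ _ (fun i => pow_zero _)]
  refine (totalDegree_mul _ _).trans ?_
  rw [algebraMap_eq, totalDegree_C, zero_add]
  refine (totalDegree_finsetProd _ _).trans ?_
  calc ∑ i, ((Fin.insertNth (α := fun _ => MvPolynomial (Fin (m + 1)) A) i₀ 1 fun c => X c + C (y c)) i ^ c.1 i).totalDegree
      ≤ ∑ i, c.1 i := Finset.sum_le_sum fun i _ => by
        refine (totalDegree_pow _ _).trans ?_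
        rcases Fin.eq_self_or_eq_succAbove i₀ i with rfl | ⟨j, rfl⟩
        · simp
        · rw [Fin.insertNth_apply_succAbove]
          exact (Nat.mul_le_mul le_rfl ((totalDegree_add _ _).trans (by simp [totalDegree_X, totalDegree_C]))).trans
            (le_of_eq (mul_one _))
    _ = d := by rw [← Finsupp.degree_eq_sum, degree_expo]

/-- The equation is determined over any subring containing the point and the shifted coefficients. -/
theorem mem_of_coeff_deh_mem {A S : Type*} [CommRing A] [SetLike S A] [SubringClass S A] (L : S)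
    (y : Fin (m + 1) → A) (z : Expo (m + 1) d → A) (hy : ∀ c, y c ∈ L)
    (hq : ∀ e, coeff e (deh i₀ y (polyOf z)) ∈ L) (c : Expo (m + 1) d) : z c ∈ L := by
  let ι : L →+* A := SubringClass.subtype L
  obtain ⟨q, hq'⟩ : ∃ q : MvPolynomial (Fin (m + 1)) L, map ι q = deh i₀ y (polyOf z) := by
    refine RingHom.mem_range.mp (mem_range_map_iff_coeffs_subset.mpr fun a ha => ?_)
    obtain ⟨e, -, rfl⟩ := mem_coeffs_iff.mp ha
    exact ⟨⟨_, hq e⟩, rfl⟩
  have hback : ∀ g, aeval (fun j => X j - C (y j)) (deh i₀ y g) = deh i₀ 0 g := by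
    intro g
    have h : (aeval (R := A) (fun j => X j - C (y j))).comp (deh i₀ y) = deh i₀ 0 := by
      refine algHom_ext fun i => ?_
      rcases Fin.eq_self_or_eq_succAbove i₀ i with rfl | ⟨j, rfl⟩
      · simp [deh_X_same]
      · simp [deh_X_succAbove]
    exact congr($h g)
  rw [← coeff_deh_zero_polyOf i₀ z c, ← hback, ← hq']
  have h : (aeval (R := A) fun j => X j - C (y j)).toRingHom.comp (map ι) =
      (map ι).comp (aeval (R := L) fun j => X j - C (⟨y j, hy j⟩ : L)).toRingHom := by
    refine ringHom_ext (fun a => by simp) fun j => ?_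
    simp [ι]
  rw [show aeval (fun j => X j - C (y j)) (map ι q) = map ι (aeval (fun j => X j - C (⟨y j, hy j⟩ : L)) q) from congr($h q),
    coeff_map]
  exact SetLike.coe_mem _

/-- There are more equations than shifted coefficients of positive degree. -/
theorem card_seqIdx_lt (m d : ℕ) : Fintype.card (SeqIdx m d) + 1 ≤ Fintype.card (Expo (m + 1) d) := by
  classical
  let f : Option (SeqIdx m d) → Expo (m + 1) d := fun o => o.elim
    ⟨Finsupp.single 0 d, mem_expo.mpr (Finsupp.degree_single _ _)⟩
    fun q => ⟨Finsupp.equivFunOnFinite.symm (Fin.cons (α := fun _ => ℕ) (d - (q.1.1 + 1)) fun j => q.2.1 j), mem_expo.mpr (by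
      have h1 := degree_expo q.2
      rw [Finsupp.degree_eq_sum] at h1 ⊢
      rw [Fin.sum_univ_succ]
      simp only [Finsupp.coe_equivFunOnFinite_symm, Fin.cons_zero, Fin.cons_succ, h1]
      have := q.1.2
      omega)⟩
  have hf : Function.Injective f := by
    rintro (_ | ⟨i, c⟩) (_ | ⟨i', c'⟩) h
    · rfl
    · exfalso
      have := congr(($h).1 0)
      simp [f] at this
      have := i'.2
      omega
    · exfalso
      have := congr(($h).1 0)
      simp [f] at this
      have := i.2
      omega
    · have hj : ∀ j, c.1 j = c'.1 j := fun j => by simpa [f] using congr(($h).1 (Fin.succ j))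
      have hcc : c.1 = c'.1 := Finsupp.ext hj
      have hi : i = i' := Fin.ext (by
        have h1 := degree_expo c
        have h2 := degree_expo c'
        rw [hcc] at h1
        omega)
      subst hi
      rw [Subtype.ext hcc]
  simpa using Fintype.card_le_of_injective f hf

end GrothLib.RegSeqGen12
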