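import Groth.Agent.Lib.RegSeqGen12.Macaulay

/-!
A Macaulay matrix of full rank makes the coordinates integral over the values of the forms.
-/

set_option autoImplicit false

namespace GrothLib.RegSeqGen12

open MvPolynomial

theorem exists_le_degree {σ : Type*} : ∀ (N : ℕ) (c : σ →₀ ℕ), N ≤ c.degree → ∃ q ≤ c, q.degree = N := by
  intro N
  induction N with
  | zero => exact fun c _ => ⟨0, zero_le, by simp⟩
  | succ N ih =>
    intro c hc
    obtain ⟨q, hq, hdeg⟩ := ih c (by omega)
    obtain ⟨j, hj⟩ : ∃ j, q j < c j := by
      by_contra! hh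
      have : q = c := le_antisymm hq hh
      rw [this] at hdeg
      omega
    refine ⟨q + Finsupp.single j 1, fun i => ?_, by rw [map_add, hdeg, Finsupp.degree_single]⟩
    rcases eq_or_ne i j with rfl | hij
    · simp only [Finsupp.add_apply, Finsupp.single_eq_same]; omega
    · simp only [Finsupp.add_apply, Finsupp.single_eq_of_ne hij, add_zero]; exact hq i

variable {F : Type*} [Field F] {m : ℕ} {I : Type*} [Fintype I] {f : I → MvPolynomial (Fin (m + 1)) F} {e : I → ℕ}
  {A B : Type*} [CommRing A] [CommRing B] [Algebra F B] [Algebra A B]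

/-- The coordinates are integral over any ring containing the values of a family of full rank. -/
theorem isIntegral_of_full (hf : ∀ i, (f i).IsHomogeneous (e i)) (he : ∀ i, 1 ≤ e i) (hfull : Full f e)
    (hF : ∀ a : F, algebraMap F B a ∈ (algebraMap A B).range)
    (x : Fin (m + 1) → B) (hx : ∀ i, aeval x (f i) ∈ (algebraMap A B).range) (c : Fin (m + 1)) :
    IsIntegral A (x c) := by
  classical
  obtain ⟨N, hN, s, hs⟩ := hfull
  let mon : (Fin (m + 1) →₀ ℕ) → B := fun q => q.prod fun i k => x i ^ k
  let T : Finset (Fin (m + 1) →₀ ℕ) := (Finset.range N).biUnion fun d => (Finset.univ : Finset (Fin (m + 1))).finsuppAntidiag d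
  let S : Submodule A B := Submodule.span A (↑(T.image mon) : Set B)
  have hFS : ∀ (a : F) (y : B), y ∈ S → algebraMap F B a * y ∈ S := fun a y hy => by
    obtain ⟨a', ha'⟩ := hF a
    rw [← ha', ← Algebra.smul_def]
    exact S.smul_mem a' hy
  have hmon : ∀ q, aeval x (monomial q (1 : F)) = mon q := fun q => by rw [aeval_monomial, map_one, one_mul]
  have key : ∀ n, ∀ q : Fin (m + 1) →₀ ℕ, q.degree = n → mon q ∈ S := by
    intro n
    induction n using Nat.strong_induction_on with
    | _ n ih =>
      intro q hq
      rcases lt_or_ge n N with hn | hn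
      · refine Submodule.subset_span (Finset.mem_coe.mpr (Finset.mem_image_of_mem _ ?_))
        exact Finset.mem_biUnion.mpr ⟨n, Finset.mem_range.mpr hn, mem_expo.mpr hq⟩
      · obtain ⟨q₁, hle, hq₁⟩ := exists_le_degree N q (hq ▸ hn)
        obtain ⟨g, hg, hsum⟩ := exists_combination hf hN hs (isHomogeneous_monomial (1 : F) hq₁)
        have hsplit : monomial q (1 : F) = monomial (q - q₁) 1 * monomial q₁ 1 := by
          rw [monomial_mul, one_mul, tsub_add_cancel_of_le hle]
        rw [← hmon, hsplit, hsum, Finset.mul_sum, map_sum]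
        refine Submodule.sum_mem _ fun i _ => ?_
        rw [← mul_assoc, map_mul, mul_comm]
        obtain ⟨a, ha⟩ := hx i
        rw [← ha, ← Algebra.smul_def]
        refine S.smul_mem a ?_
        have hdq : (q - q₁).degree = n - N := by
          have := congrArg Finsupp.degree (tsub_add_cancel_of_le hle)
          rw [map_add, hq, hq₁] at this
          omega
        have hhom : (monomial (q - q₁) (1 : F) * g i).IsHomogeneous (n - N + (N - e i)) :=
          (isHomogeneous_monomial _ hdq).mul (hg i)
        rw [(monomial (q - q₁) (1 : F) * g i).as_sum, map_sum]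
        refine Submodule.sum_mem _ fun r hr => ?_
        rw [aeval_monomial]
        refine hFS _ _ (ih _ ?_ r rfl)
        rw [Finsupp.degree_apply, ← hhom.degree_eq_sum_deg_support hr]
        have := hN i; have := he i
        omega
  have hle : Subalgebra.toSubmodule (Algebra.adjoin A (Set.range x)) ≤ S := by
    rw [Algebra.adjoin_eq_span, Submodule.span_le]
    intro y hy
    obtain ⟨q, hq⟩ : ∃ q, y = mon q := by
      induction hy using Submonoid.closure_induction with
      | mem y hy =>
        obtain ⟨i, rfl⟩ := hy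
        exact ⟨Finsupp.single i 1, by rw [← hmon, ← X, aeval_X]⟩
      | one => exact ⟨0, by simp [mon]⟩
      | mul a b _ _ ha hb =>
        obtain ⟨qa, rfl⟩ := ha
        obtain ⟨qb, rfl⟩ := hb
        exact ⟨qa + qb, by rw [← hmon, ← hmon, ← hmon, ← map_mul, monomial_mul, one_mul]⟩
    rw [hq]
    exact key _ q rfl
  refine IsIntegral.of_mem_of_fg (Algebra.adjoin A (Set.range x)) ?_ _ (Algebra.subset_adjoin ⟨c, rfl⟩)
  rw [show Subalgebra.toSubmodule (Algebra.adjoin A (Set.range x)) = S from le_antisymm hle ?_]
  · exact ⟨T.image mon, rfl⟩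
  · rw [Submodule.span_le]
    intro y hy
    obtain ⟨q, -, rfl⟩ := Finset.mem_image.mp (Finset.mem_coe.mp hy)
    exact Subalgebra.prod_mem _ fun i _ => pow_mem (Algebra.subset_adjoin (Set.mem_range_self (f := x) i)) _

end GrothLib.RegSeqGen12
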