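import Groth.Agent.Lib.RegSeqGen12.Chart

/-!
Lines through a point of a general hypersurface.
-/

set_option autoImplicit false
set_option maxHeartbeats 800000
set_option backward.isDefEq.respectTransparency false
set_option backward.isDefEq.respectTransparency.types false

namespace GrothLib.RegSeqGen12

open MvPolynomial

universe u

variable {k : Type u} [Field k] {m d : ℕ} (i₀ : Fin (m + 2))

/-- At every point of the generic hypersurface the homogeneous parts form a good sequence. -/
theorem good_of_algebraicIndependent [Infinite k] {K : Type u} [Field K] [Algebra k K] [IsAlgClosed K] (hdm : d + 1 ≤ m)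
    (z : Expo (m + 1) d → K) (hz : AlgebraicIndependent k z) (y : Fin (m + 1) → K)
    (h0 : coeff 0 (deh i₀ y (polyOf z)) = 0) : Good (lineForms i₀ y (polyOf z)) d := by
  classical
  by_contra hbad
  obtain ⟨j, hjd, h1, h2⟩ : ∃ j, j < d ∧ Good (lineForms i₀ y (polyOf z)) j ∧
      ¬ Good (lineForms i₀ y (polyOf z)) (j + 1) := by
    by_contra! hh
    exact hbad (by
      have : ∀ j, j ≤ d → Good (lineForms i₀ y (polyOf z)) j := fun j => by
        induction j with
        | zero => exact fun _ => good_zero _
        | succ j ih => exact fun hj => hh j (by omega) (ih (by omega))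
      exact this d le_rfl)
  obtain ⟨S, hcard, hS⟩ := exists_dependent k (lineForms_isHomogeneous i₀ y (polyOf z)) (by omega : j + 1 ≤ m) h1 h2
  let e : Expo m (j + 1) → SeqIdx m d := fun c => ⟨⟨j, hjd⟩, c⟩
  have he : Function.Injective e := fun a b h => eq_of_heq (Sigma.mk.inj_iff.mp h).2
  let q : SeqIdx m d → K := fun s => coeff s.2.1 (deh i₀ y (polyOf z))
  let T : Finset K := Finset.univ.image y ∪ (Finset.univ \ S.image e).image q
  have hline : ∀ i, ∀ a : Fin (m + 1) →₀ ℕ, a.degree = i + 1 →
      coeff a (lineForms i₀ y (polyOf z) i) = coeff a (deh i₀ y (polyOf z)) := fun i a ha => by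
    rw [lineForms, coeff_homogeneousComponent, if_pos ha]
  let L := closureOf k (T : Set K)
  have hy : ∀ c, y c ∈ L := fun c =>
    subset_closureOf (Finset.mem_coe.mpr (Finset.mem_union_left _ (Finset.mem_image_of_mem y (Finset.mem_univ c))))
  have hmem : ∀ s, s ∉ S.image e → q s ∈ L := fun s hs =>
    subset_closureOf (Finset.mem_coe.mpr (Finset.mem_union_right _
      (Finset.mem_image_of_mem q (Finset.mem_sdiff.mpr ⟨Finset.mem_univ s, hs⟩))))
  have hall : ∀ s, q s ∈ L := by
    intro s
    by_cases hs : s ∈ S.image e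
    · obtain ⟨c, hc, rfl⟩ := Finset.mem_image.mp hs
      show coeff c.1 (deh i₀ y (polyOf z)) ∈ L
      rw [← hline j c.1 (degree_expo c)]
      refine hS L (fun w hw => mem_closureOf_of_isAlgebraic hw) (fun i hi a => ?_) (fun c' hc' => ?_) c hc
      · by_cases ha : a.degree = i + 1
        · rw [hline i a ha]
          refine hmem ⟨⟨i, hi.trans hjd⟩, ⟨a, mem_expo.mpr ha⟩⟩ fun hmem' => ?_
          obtain ⟨c₀, -, hc₀⟩ := Finset.mem_image.mp hmem'
          have := congrArg (fun q : SeqIdx m d => q.1.1) hc₀
          simp only [e] at this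
          omega
        · rw [(lineForms_isHomogeneous i₀ y (polyOf z) i).coeff_eq_zero ha]
          exact zero_mem _
      · rw [hline j c'.1 (degree_expo c')]
        refine hmem (e c') fun h' => ?_
        obtain ⟨c₀, hc₀, hc₀'⟩ := Finset.mem_image.mp h'
        exact hc' (he hc₀' ▸ hc₀)
    · exact hmem s hs
  have hcoeff : ∀ a, coeff a (deh i₀ y (polyOf z)) ∈ L := by
    intro a
    rcases Nat.eq_zero_or_pos a.degree with h | h
    · rw [(Finsupp.degree_eq_zero_iff a).mp h, h0]
      exact zero_mem _
    · rcases le_or_gt a.degree d with hle | hlt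
      · exact hall ⟨⟨a.degree - 1, by omega⟩, ⟨a, mem_expo.mpr (by show a.degree = a.degree - 1 + 1; omega)⟩⟩
      · rw [coeff_eq_zero_of_totalDegree_lt ((totalDegree_deh_le i₀ y z).trans_lt
          (by rwa [Finsupp.degree_eq_sum, ← Finset.sum_subset (Finset.subset_univ a.support)
            (fun i _ hi => Finsupp.notMem_support_iff.mp hi)] at hlt))]
        exact zero_mem _
  have hcount := card_le_of_mem_closureOf hz T (mem_of_coeff_deh_mem i₀ L y z hy hcoeff)
  have hT : T.card ≤ (m + 1) + ((Finset.univ \ S.image e).card) :=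
    (Finset.card_union_le _ _).trans (add_le_add (Finset.card_image_le.trans (by simp)) Finset.card_image_le)
  have h3 : (Finset.univ \ S.image e).card + (m + 1) = Fintype.card (SeqIdx m d) := by
    rw [Finset.card_univ_sdiff, Finset.card_image_of_injective _ he, hcard,
      Nat.sub_add_cancel ((le_of_eq ((Finset.card_image_of_injective S he).trans hcard).symm).trans (Finset.card_le_univ _))]
  have := card_seqIdx_lt m d
  omega

/-- a prime of a ring is the kernel of a map to an algebraically closed field -/
theorem exists_hom_ker_eq {S : Type u} [CommRing S] (Q : Ideal S) [Q.IsPrime] :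
    ∃ (Ω : Type u) (_ : Field Ω) (_ : IsAlgClosed Ω) (ψ : S →+* Ω), RingHom.ker ψ = Q := by
  let A := S ⧸ Q
  let Ω := AlgebraicClosure (FractionRing A)
  refine ⟨Ω, inferInstance, inferInstance, (algebraMap A Ω).comp (Ideal.Quotient.mk Q), ?_⟩
  rw [← RingHom.comap_ker, (RingHom.injective_iff_ker_eq_bot _).mp, ← RingHom.ker_eq_comap_bot, Ideal.mk_ker]
  rw [IsScalarTower.algebraMap_eq A (FractionRing A) Ω]
  exact (algebraMap (FractionRing A) Ω).injective.comp (IsFractionRing.injective A (FractionRing A))

/-- coefficients of a universal hypersurface, with a point of the chart -/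
abbrev UnivRing (k : Type u) [Field k] (m d : ℕ) : Type u :=
  MvPolynomial (Fin (m + 1)) (MvPolynomial (Expo (m + 1) d) k)

variable (k m d) in
/-- the universal coefficients -/
noncomputable def univCoef (c : Expo (m + 1) d) : UnivRing k m d := C (X c)

variable (k m d) in
/-- the universal point -/
noncomputable def univPt (c : Fin (m + 1)) : UnivRing k m d := X c

/-- the universal minors -/
noncomputable def univMinor (l : Fin (m + 1 - d) → Fin (m + 1) → k) (N : ℕ)
    (s : Expo m N → Row m (deg d (m + 1 - d)) N) : UnivRing k m d :=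
  minor (fam (fun i : Fin d => lineForms i₀ (univPt k m d) (polyOf (univCoef k m d)) i.1)
    fun t c => algebraMap k (UnivRing k m d) (l t c)) (deg d (m + 1 - d)) N s

theorem map_univMinor {A : Type u} [CommRing A] (φ : UnivRing k m d →+* A) (l : Fin (m + 1 - d) → Fin (m + 1) → k)
    (N : ℕ) (s : Expo m N → Row m (deg d (m + 1 - d)) N) :
    φ (univMinor i₀ l N s) =
      minor (fam (fun i : Fin d => lineForms i₀ (fun c => φ (univPt k m d c)) (polyOf fun c => φ (univCoef k m d c)) i.1)
        fun t c => φ (algebraMap k (UnivRing k m d) (l t c))) (deg d (m + 1 - d)) N s := by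
  rw [univMinor, map_minor, map_fam]
  congr 2
  funext i
  rw [map_lineForms, map_polyOf]

/-- the value at the point -/
noncomputable def univValue : UnivRing k m d :=
  coeff 0 (deh i₀ (univPt k m d) (polyOf (univCoef k m d)))

theorem map_univValue {A : Type u} [CommRing A] (φ : UnivRing k m d →+* A) :
    φ (univValue i₀) = coeff 0 (deh i₀ (fun c => φ (univPt k m d c)) (polyOf fun c => φ (univCoef k m d c))) := by
  rw [univValue, ← coeff_map, map_deh, map_polyOf]

/-- A nonzero polynomial in the coefficients forcing good sequences at all points in the chart. -/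
theorem exists_discriminant [IsAlgClosed k] (hdm : d + 1 ≤ m) :
    ∃ D : MvPolynomial (Expo (m + 1) d) k, D ≠ 0 ∧ ∀ (z : Expo (m + 1) d → k), eval z D ≠ 0 →
      ∀ y : Fin (m + 1) → k, coeff 0 (deh i₀ y (polyOf z)) = 0 → Good (lineForms i₀ y (polyOf z)) d := by
  classical
  let R := MvPolynomial (Expo (m + 1) d) k
  let J : Ideal (UnivRing k m d) := Ideal.span ({univValue i₀} ∪
    {f | ∃ (l : Fin (m + 1 - d) → Fin (m + 1) → k) (N : ℕ) (_ : ∀ i, deg d (m + 1 - d) i ≤ N)
      (s : Expo m N → Row m (deg d (m + 1 - d)) N), f = univMinor i₀ l N s})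
  obtain ⟨D, hD0, hDJ⟩ : ∃ D : R, D ≠ 0 ∧ (C D : UnivRing k m d) ∈ J := by
    by_contra! hh
    obtain ⟨Q, hQ, hJQ, hdisj⟩ := Ideal.exists_le_prime_disjoint J
      ((nonZeroDivisors R).map (C : R →+* UnivRing k m d)) (Set.disjoint_left.mpr fun f hf hf' => by
        obtain ⟨D, hD, rfl⟩ := Submonoid.mem_map.mp hf'
        exact hh D (nonZeroDivisors.ne_zero hD) hf)
    obtain ⟨Ω, _, _, ψ, hker⟩ := exists_hom_ker_eq Q
    let : Algebra k Ω := (ψ.comp (algebraMap k (UnivRing k m d))).toAlgebra
    have hψ : ∀ f, ψ f = 0 → f ∈ Q := fun f hf => hker ▸ RingHom.mem_ker.mpr hf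
    have hz : AlgebraicIndependent k fun c => ψ (univCoef k m d c) := by
      rw [algebraicIndependent_iff]
      intro g hg
      by_contra hg0
      have h1 : (aeval (R := k) fun c => ψ (univCoef k m d c)).toRingHom = ψ.comp (C : R →+* UnivRing k m d) := by
        refine ringHom_ext (fun a => ?_) fun c => ?_
        · rw [AlgHom.toRingHom_eq_coe, RingHom.coe_coe, aeval_C, RingHom.algebraMap_toAlgebra]
          rfl
        · rw [AlgHom.toRingHom_eq_coe, RingHom.coe_coe, aeval_X]
          rfl
      have h2 : ψ (C g) = 0 := by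
        have := congr($h1 g)
        rw [AlgHom.toRingHom_eq_coe, RingHom.coe_coe, hg] at this
        exact this.symm
      exact Set.disjoint_left.mp hdisj (hψ _ h2)
        (Submonoid.mem_map.mpr ⟨g, mem_nonZeroDivisors_of_ne_zero hg0, rfl⟩)
    have hgood := good_of_algebraicIndependent i₀ hdm (fun c => ψ (univCoef k m d c)) hz
      (fun c => ψ (univPt k m d c)) (by
        rw [← map_univValue]
        exact RingHom.mem_ker.mp (hker.symm ▸ hJQ (Ideal.subset_span (Or.inl rfl))))
    obtain ⟨l, N, hN, s, hs⟩ := exists_rational k (lineForms_isHomogeneous i₀ _ _) hgood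
    refine hs ?_
    have : ψ (univMinor i₀ l N s) = 0 :=
      RingHom.mem_ker.mp (hker.symm ▸ hJQ (Ideal.subset_span (Or.inr ⟨l, N, hN, s, rfl⟩)))
    rw [map_univMinor] at this
    exact this
  refine ⟨D, hD0, fun z hzD y hy => ?_⟩
  let φ : UnivRing k m d →+* k := eval₂Hom (eval z) y
  have hφC : ∀ c, φ (univCoef k m d c) = z c := fun c => by simp [φ, univCoef]
  have hφX : ∀ c, φ (univPt k m d c) = y c := fun c => by simp [φ, univPt]
  by_contra hbad
  have hker : J ≤ RingHom.ker φ := by
    rw [Ideal.span_le]
    rintro f (hf | ⟨l, N, hN, s, rfl⟩)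
    · rw [Set.mem_singleton_iff.mp hf, SetLike.mem_coe, RingHom.mem_ker, map_univValue]
      simp only [hφC, hφX]
      exact hy
    · rw [SetLike.mem_coe, RingHom.mem_ker, map_univMinor]
      simp only [hφC, hφX]
      by_contra hne
      refine hbad ⟨l, fun x hx hxl => eq_zero_of_full (A := k) (fam_isHomogeneous
        (fun i : Fin d => lineForms_isHomogeneous i₀ y (polyOf z) i.1) l) ⟨N, hN, s, ?_⟩ x ?_⟩
      · have hl : (fun (t : Fin (m + 1 - d)) (c : Fin (m + 1)) => φ (algebraMap k (UnivRing k m d) (l t c))) = l :=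
          funext fun t => funext fun c => by
            show φ (C (C (l t c))) = l t c
            simp [φ]
        rwa [hl] at hne
      · rintro (i | t)
        · simpa [fam, aeval_eq_eval] using hx i.1 i.2
        · simpa [fam, aeval_eq_eval, eval_lin] using hxl t
  have := RingHom.mem_ker.mp (hker hDJ)
  exact hzD (by simpa [φ] using this)

/-- Good homogeneous parts bound the cone of lines. -/
theorem codimGE_lines_of_good [IsAlgClosed k] (hdm : d ≤ m + 1) (Φ : MvPolynomial (Fin (m + 2)) k) (v : Fin (m + 2) → k)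
    (hv : v i₀ ≠ 0) (hgood : Good (lineForms i₀ (fun c => v (i₀.succAbove c) / v i₀) Φ) d) :
    LefPen.CodimGE k {w : Fin (m + 2) → k | ∀ s t : k, eval (s • v + t • w) Φ = 0} d := by
  classical
  set y : Fin (m + 1) → k := fun c => v (i₀.succAbove c) / v i₀ with hy
  refine codimGE_of (LinearEquiv.refl k (Fin (m + 2) → k)) _ _ fun p hp hpD => ?_
  obtain ⟨Ω, _, _, _, x, hker⟩ := exists_point p
  obtain ⟨l, hl⟩ := exists_rational k (lineForms_isHomogeneous i₀ y Φ) hgood
  simp only [Algebra.algebraMap_self, RingHom.id_apply] at hl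
  let π : Fin (m + 1) → Ω := fun c => x (i₀.succAbove c) - algebraMap k Ω (y c) * x i₀
  let P : Fin (m + 1) → MvPolynomial (Fin (m + 2)) k := fun c => X (i₀.succAbove c) - C (y c) * X i₀
  have hzero : ∀ i, aeval π (lineForms i₀ y Φ i) = 0 := by
    intro i
    have hp' : aeval P (lineForms i₀ y Φ i) ∈ p := by
      refine hpD _ fun w hw => ?_
      rw [LinearEquiv.refl_apply]
      let u : Fin (m + 1) → k := fun c => w (i₀.succAbove c) - y c * w i₀
      have hev : eval w (aeval P (lineForms i₀ y Φ i)) = eval u (lineForms i₀ y Φ i) := by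
        have h : (eval w).comp (aeval P).toRingHom = eval u := by
          refine ringHom_ext (fun a => by simp) fun c => ?_
          simp [P, u]
        exact congr($h (lineForms i₀ y Φ i))
      rw [hev]
      have hzeros : ∀ s : k, eval (s • u) (deh i₀ y Φ) = 0 := by
        intro s
        rw [eval_deh]
        have := hw ((1 - s * w i₀) / v i₀) s
        refine Eq.trans ?_ this
        congr
        funext j
        rcases Fin.eq_self_or_eq_succAbove i₀ j with rfl | ⟨c, rfl⟩
        · simp only [Fin.insertNth_apply_same, Pi.add_apply, Pi.smul_apply, smul_eq_mul]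
          field_simp
          ring
        · simp only [Fin.insertNth_apply_succAbove, Pi.add_apply, Pi.smul_apply, smul_eq_mul, u, hy]
          field_simp
          ring
      let Q : Polynomial k := ∑ e ∈ Finset.range ((deh i₀ y Φ).totalDegree + 1),
        Polynomial.C (eval u (homogeneousComponent e (deh i₀ y Φ))) * Polynomial.X ^ e
      have hQ : Q = 0 := Polynomial.funext fun s => by
        rw [Polynomial.eval_zero]
        refine Eq.trans ?_ (hzeros s)
        conv_rhs => rw [← sum_homogeneousComponent (deh i₀ y Φ), map_sum]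
        rw [Polynomial.eval_finsetSum]
        refine Finset.sum_congr rfl fun e _ => ?_
        rw [Polynomial.eval_mul, Polynomial.eval_C, Polynomial.eval_pow, Polynomial.eval_X, ← aeval_eq_eval,
          ← aeval_eq_eval, show s • u = fun c => s * u c from rfl,
          eval_smul_of_isHomogeneous (homogeneousComponent_isHomogeneous e (deh i₀ y Φ)), mul_comm]
      rw [lineForms]
      rcases lt_or_ge (deh i₀ y Φ).totalDegree (i + 1) with hlt | hge
      · rw [homogeneousComponent_eq_zero _ _ hlt, map_zero]
      · have := congrArg (fun g => Polynomial.coeff g (i + 1)) hQ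
        simp only [Q, Polynomial.finsetSum_coeff, Polynomial.coeff_C_mul_X_pow, Polynomial.coeff_zero] at this
        rwa [Finset.sum_ite_eq, if_pos (Finset.mem_range.mpr (by omega))] at this
    rw [← hker, RingHom.mem_ker] at hp'
    have h : (aeval (R := k) x).comp (aeval P) = aeval π := algHom_ext fun c => by simp [P, π]
    rw [← h]
    exact hp'
  let T : Finset Ω := insert (x i₀) (Finset.univ.image fun t : Fin (m + 1 - d) => aeval π (lin (l t)))
  let L := closureOf k (T : Set Ω)
  have hπ : ∀ c, π c ∈ L := fun c => mem_closureOf_of_isAlgebraic (IsIntegral.isAlgebraic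
    (isIntegral_of_vanish (A := L) (B := Ω) (lineForms_isHomogeneous i₀ y Φ) hl
      (fun a => ⟨algebraMap k L a, rfl⟩) π (fun i _ => hzero i)
      (fun t => ⟨⟨_, subset_closureOf (Finset.mem_coe.mpr (Finset.mem_insert_of_mem
        (Finset.mem_image_of_mem _ (Finset.mem_univ t))))⟩, rfl⟩) c))
  have hx0 : x i₀ ∈ L := subset_closureOf (Finset.mem_coe.mpr (Finset.mem_insert_self _ _))
  rw [← hker]
  refine le_height_ker x T d ?_ fun j => ?_
  · have : T.card ≤ m + 1 - d + 1 := (Finset.card_insert_le _ _).trans
      (Nat.add_le_add_right (Finset.card_image_le.trans (by simp)) 1)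
    rw [Fintype.card_fin]
    omega
  · rcases Fin.eq_self_or_eq_succAbove i₀ j with rfl | ⟨c, rfl⟩
    · exact hx0
    · rw [show x (i₀.succAbove c) = π c + algebraMap k Ω (y c) * x i₀ by simp [π]]
      exact add_mem (hπ c) (mul_mem (L.algebraMap_mem _) hx0)

/-- Lines through every point of a general hypersurface form a family of the expected dimension. -/
theorem isGeneric_lines [IsAlgClosed k] (hdm : d + 1 ≤ m) :
    LefPen.IsGeneric k {Φ : LefPen.Form (m + 1) k d |
      ∀ v : Fin (m + 2) → k, v ≠ 0 → eval v Φ.1 = 0 →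
        LefPen.CodimGE k {w : Fin (m + 2) → k | ∀ s t : k, eval (s • v + t • w) Φ.1 = 0} d} := by
  classical
  choose D hD0 hD using fun i : Fin (m + 2) => exists_discriminant (k := k) (d := d) i hdm
  refine GrothLib.FanoGen.isGeneric_of_poly (GrothLib.FanoGen.coeffs (n := m + 1) (d := d)) (∏ i, D i)
    (Finset.prod_ne_zero_iff.mpr fun i _ => hD0 i) _ fun Φ hΦ v hv hv0 => ?_
  rw [map_prod, Finset.prod_ne_zero_iff] at hΦ
  obtain ⟨i, hi⟩ : ∃ i, v i ≠ 0 := Function.ne_iff.mp hv
  have hΦeq : polyOf (GrothLib.FanoGen.coeffs Φ) = Φ.1 :=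
    eq_of_coeffsAt (polyOf_isHomogeneous _) Φ.2 (funext fun c => (coeff_polyOf _ c).trans rfl)
  have hgood := hD i (GrothLib.FanoGen.coeffs Φ) (hΦ i (Finset.mem_univ i)) (fun c => v (i.succAbove c) / v i) (by
    rw [hΦeq, ← constantCoeff_eq, ← eval_zero, eval_deh]
    have h1 := eval_smul_of_isHomogeneous (A := k) Φ.2 (v i)⁻¹ v
    rw [aeval_eq_eval, aeval_eq_eval, hv0, mul_zero] at h1
    refine Eq.trans ?_ h1
    congr
    funext j
    rcases Fin.eq_self_or_eq_succAbove i j with rfl | ⟨c, rfl⟩
    · simp [inv_mul_cancel₀ hi]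
    · simp [div_eq_inv_mul])
  rw [hΦeq] at hgood
  exact codimGE_lines_of_good i (by omega) Φ.1 v hi hgood

end GrothLib.RegSeqGen12
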