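import Mathlib

/-!
Macaulay matrices of families of forms: the absence of a common nonzero zero is the nonvanishing of a minor,
and it makes the quotient ring finite over the constants.
-/

set_option autoImplicit false

namespace GrothLib.RegSeqGen12

open MvPolynomial

universe u

/-- exponents of degree `d` in `m + 1` variables -/
abbrev Expo (m d : ℕ) : Type := ↥((Finset.univ : Finset (Fin (m + 1))).finsuppAntidiag d)

theorem mem_expo {m d : ℕ} {c : Fin (m + 1) →₀ ℕ} :
    c ∈ (Finset.univ : Finset (Fin (m + 1))).finsuppAntidiag d ↔ c.degree = d := by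
  simp [Finset.mem_finsuppAntidiag, Finsupp.degree_eq_sum]

theorem degree_expo {m d : ℕ} (c : Expo m d) : c.1.degree = d := mem_expo.mp c.2

/-- a spanning family of vectors contains a square family with nonzero determinant -/
theorem exists_det_ne_zero {F : Type*} [Field F] {Q R : Type*} [Fintype Q] [DecidableEq Q] (v : R → Q → F)
    (h : Submodule.span F (Set.range v) = ⊤) :
    ∃ s : Q → R, (Matrix.of fun q => v (s q)).det ≠ 0 := by
  obtain ⟨κ, a, -, hspan, hli⟩ := exists_linearIndependent' F v
  have hb : Submodule.span F (Set.range (v ∘ a)) = ⊤ := hspan.trans h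
  let b : Module.Basis κ F (Q → F) := Module.Basis.mk hli hb.ge
  let e : Q ≃ κ := (Pi.basisFun F Q).indexEquiv b
  refine ⟨a ∘ e, ?_⟩
  have : LinearIndependent F (Matrix.of fun q => v (a (e q))).row := hli.comp e e.injective
  exact ((Matrix.isUnit_iff_isUnit_det _).mp (Matrix.linearIndependent_rows_iff_isUnit.mp this)).ne_zero

section Def

variable {A : Type*} [CommRing A] {m : ℕ} {I : Type*} (f : I → MvPolynomial (Fin (m + 1)) A) (e : I → ℕ)

/-- indices of the rows of the Macaulay matrix in degree `N` -/
abbrev Row (m : ℕ) {I : Type*} (e : I → ℕ) (N : ℕ) : Type _ := Σ i : I, Expo m (N - e i)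

/-- the rows of the Macaulay matrix -/
noncomputable def row (N : ℕ) (r : Row m e N) : Expo m N → A :=
  fun c => coeff c.1 (monomial r.2.1 (1 : A) * f r.1)

/-- a square minor of the Macaulay matrix -/
noncomputable def minor (N : ℕ) (s : Expo m N → Row m e N) : A :=
  (Matrix.of fun q => row f e N (s q)).det

theorem map_minor {B : Type*} [CommRing B] (φ : A →+* B) (N : ℕ) (s : Expo m N → Row m e N) :
    φ (minor f e N s) = minor (fun i => map φ (f i)) e N s := by
  rw [minor, RingHom.map_det, minor]
  congr 1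
  ext q c
  simp only [RingHom.mapMatrix_apply, Matrix.map_apply, Matrix.of_apply, row]
  rw [← coeff_map, map_mul, map_monomial, map_one]

/-- the Macaulay matrix has full rank in some degree -/
def Full : Prop := ∃ N, (∀ i, e i ≤ N) ∧ ∃ s : Expo m N → Row m e N, minor f e N s ≠ 0

end Def

theorem homogeneousComponent_mul_of_isHomogeneous {A : Type*} [CommRing A] {σ : Type*}
    {f : MvPolynomial σ A} {e : ℕ} (hf : f.IsHomogeneous e) (g : MvPolynomial σ A) {n : ℕ} (hn : e ≤ n) :
    homogeneousComponent n (g * f) = homogeneousComponent (n - e) g * f := by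
  conv_lhs => rw [← sum_homogeneousComponent g, Finset.sum_mul, map_sum]
  have key : ∀ i, homogeneousComponent n (homogeneousComponent i g * f) =
      if i = n - e then homogeneousComponent i g * f else 0 := fun i => by
    rw [homogeneousComponent_of_mem ((homogeneousComponent_isHomogeneous i g).mul hf)]
    exact if_congr (by omega) rfl rfl
  simp only [key]
  rw [Finset.sum_ite_eq']
  split_ifs with h
  · rfl
  · rw [homogeneousComponent_eq_zero (n - e) g (by simp at h; omega), zero_mul]

variable {F : Type*} [Field F] {m : ℕ} {I : Type*} {f : I → MvPolynomial (Fin (m + 1)) F} {e : I → ℕ}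

/-- coefficients in degree `N` -/
noncomputable def coeffsAt (m N : ℕ) : MvPolynomial (Fin (m + 1)) F →ₗ[F] (Expo m N → F) where
  toFun g c := coeff c.1 g
  map_add' g h := by funext c; simp
  map_smul' r g := by funext c; simp

theorem eq_of_coeffsAt {g h : MvPolynomial (Fin (m + 1)) F} {N : ℕ} (hg : g.IsHomogeneous N)
    (hh : h.IsHomogeneous N) (hc : coeffsAt m N g = coeffsAt m N h) : g = h := by
  refine MvPolynomial.ext _ _ fun c => ?_
  by_cases hd : c.degree = N
  · exact congrFun hc ⟨c, mem_expo.mpr hd⟩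
  · rw [hg.coeff_eq_zero hd, hh.coeff_eq_zero hd]

/-- In a degree where the matrix has full rank every form is a combination. -/
theorem exists_combination [Fintype I] (hf : ∀ i, (f i).IsHomogeneous (e i)) {N : ℕ} (hN : ∀ i, e i ≤ N)
    {s : Expo m N → Row m e N} (hs : minor f e N s ≠ 0) {ν : MvPolynomial (Fin (m + 1)) F}
    (hν : ν.IsHomogeneous N) :
    ∃ g : I → MvPolynomial (Fin (m + 1)) F, (∀ i, (g i).IsHomogeneous (N - e i)) ∧ ν = ∑ i, g i * f i := by
  classical
  let M : Matrix (Expo m N) (Expo m N) F := Matrix.of fun q => row f e N (s q)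
  obtain ⟨c, hc⟩ := (Matrix.vecMul_surjective_iff_isUnit.mpr
    ((Matrix.isUnit_iff_isUnit_det _).mpr (isUnit_iff_ne_zero.mpr hs)) : Function.Surjective M.vecMul) (coeffsAt m N ν)
  refine ⟨fun i => ∑ q : Expo m N, if (s q).1 = i then monomial (s q).2.1 (c q) else 0, fun i => ?_, ?_⟩
  · refine IsHomogeneous.sum _ _ _ fun q _ => ?_
    split_ifs with h
    · subst h
      exact isHomogeneous_monomial _ (degree_expo _)
    · exact isHomogeneous_zero _ _ _
  · have hrhs : (∑ i, (∑ q : Expo m N, if (s q).1 = i then monomial (s q).2.1 (c q) else 0) * f i) =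
        ∑ q : Expo m N, monomial (s q).2.1 (c q) * f (s q).1 := by
      simp only [Finset.sum_mul]
      rw [Finset.sum_comm]
      refine Finset.sum_congr rfl fun q _ => ?_
      rw [Finset.sum_eq_single (s q).1]
      · rw [if_pos rfl]
      · intro i _ hi
        rw [if_neg (Ne.symm hi), zero_mul]
      · simp
    rw [hrhs]
    have hhom : ∀ q : Expo m N, (monomial (s q).2.1 (c q) * f (s q).1).IsHomogeneous N := fun q => by
      have := (isHomogeneous_monomial (c q) (degree_expo (s q).2)).mul (hf (s q).1)
      rwa [Nat.sub_add_cancel (hN _)] at this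
    refine eq_of_coeffsAt hν (IsHomogeneous.sum _ _ _ fun q _ => hhom q) ?_
    rw [← hc, map_sum]
    funext x
    simp only [Matrix.vecMul, dotProduct, Finset.sum_apply]
    refine Finset.sum_congr rfl fun q _ => ?_
    show c q * coeff x.1 (monomial (s q).2.1 (1 : F) * f (s q).1) = coeff x.1 (monomial (s q).2.1 (c q) * f (s q).1)
    rw [show monomial (s q).2.1 (c q) = C (c q) * monomial (s q).2.1 (1 : F) by rw [C_mul_monomial, mul_one],
      mul_assoc, coeff_C_mul]

theorem eval_smul_of_isHomogeneous {σ A : Type*} [CommRing A] [Algebra F A] {g : MvPolynomial σ F} {d : ℕ}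
    (hg : g.IsHomogeneous d) (t : A) (x : σ → A) : aeval (fun c => t * x c) g = t ^ d * aeval x g := by
  rw [aeval_def, aeval_def, eval₂_eq, eval₂_eq, Finset.mul_sum]
  refine Finset.sum_congr rfl fun s hs => ?_
  simp only [mul_pow, Finset.prod_mul_distrib]
  rw [Finset.prod_pow_eq_pow_sum, ← hg.degree_eq_sum_deg_support hs]
  ring

/-- Full rank excludes a nonzero common zero in any extension. -/
theorem eq_zero_of_full [Fintype I] (hf : ∀ i, (f i).IsHomogeneous (e i)) (hfull : Full f e)
    {A : Type*} [CommRing A] [IsDomain A] [Algebra F A] (x : Fin (m + 1) → A) (hx : ∀ i, aeval x (f i) = 0) :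
    x = 0 := by
  obtain ⟨N, hN, s, hs⟩ := hfull
  funext c
  obtain ⟨g, -, hg⟩ := exists_combination hf hN hs (isHomogeneous_X_pow c N)
  have := congrArg (aeval x) hg
  rw [map_sum, Finset.sum_eq_zero (fun i _ => by rw [map_mul, hx i, mul_zero]), map_pow, aeval_X] at this
  rcases Nat.eq_zero_or_pos N with h0 | h0
  · simp [h0] at this
  · exact eq_zero_of_pow_eq_zero this

/-- The projective Nullstellensatz. -/
theorem full_of_noZero [IsAlgClosed F] [Fintype I] (hf : ∀ i, (f i).IsHomogeneous (e i))
    (h : ∀ x : Fin (m + 1) → F, (∀ i, eval x (f i) = 0) → x = 0) : Full f e := by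
  classical
  have hX : ∀ c, (X c : MvPolynomial (Fin (m + 1)) F) ∈ (Ideal.span (Set.range f)).radical := fun c => by
    rw [← vanishingIdeal_zeroLocus_eq_radical (K := F), mem_vanishingIdeal_iff]
    intro x hx
    rw [mem_zeroLocus_iff] at hx
    rw [h x fun i => by simpa [aeval_eq_eval] using hx _ (Ideal.subset_span ⟨i, rfl⟩)]
    simp
  choose M hM using fun c => Ideal.mem_radical_iff.mp (hX c)
  refine ⟨(∑ c, (M c + 1)) + ∑ i, e i, fun i => (Finset.single_le_sum (fun j _ => Nat.zero_le _)
    (Finset.mem_univ i)).trans (Nat.le_add_left _ _), ?_⟩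
  set N := (∑ c, (M c + 1)) + ∑ i, e i with hNdef
  have hN : ∀ i, e i ≤ N := fun i => (Finset.single_le_sum (fun j _ => Nat.zero_le _) (Finset.mem_univ i)).trans
    (Nat.le_add_left _ _)
  refine exists_det_ne_zero (row f e N) (eq_top_iff.mpr ?_)
  rw [← (Pi.basisFun F (Expo m N)).span_eq, Submodule.span_le]
  rintro _ ⟨ν, rfl⟩
  have hmem : monomial ν.1 (1 : F) ∈ Ideal.span (Set.range f) := by
    obtain ⟨c, hc⟩ : ∃ c, M c ≤ ν.1 c := by
      by_contra! hh
      have hle : ∑ c, ν.1 c + ∑ c : Fin (m + 1), 1 ≤ ∑ c, M c := by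
        rw [← Finset.sum_add_distrib]
        exact Finset.sum_le_sum fun c _ => hh c
      have h2 := degree_expo ν
      rw [Finsupp.degree_eq_sum] at h2
      simp only [Finset.sum_const, Finset.card_univ, Fintype.card_fin, smul_eq_mul, mul_one] at hle
      have : ∑ c, M c ≤ ∑ c, (M c + 1) := Finset.sum_le_sum fun c _ => Nat.le_succ _
      omega
    have : monomial ν.1 (1 : F) = monomial (ν.1 - Finsupp.single c (M c)) 1 * X c ^ M c := by
      rw [X_pow_eq_monomial, monomial_mul, one_mul, tsub_add_cancel_of_le (Finsupp.single_le_iff.mpr hc)]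
    rw [this]
    exact Ideal.mul_mem_left _ _ (hM c)
  obtain ⟨g, hg⟩ := Ideal.mem_span_range_iff_exists_fun.mp hmem
  have hν : monomial ν.1 (1 : F) = ∑ i, homogeneousComponent (N - e i) (g i) * f i := by
    conv_lhs => rw [← homogeneousComponent_eq_self (isHomogeneous_monomial (1 : F) (degree_expo ν)), ← hg, map_sum]
    exact Finset.sum_congr rfl fun i _ => homogeneousComponent_mul_of_isHomogeneous (hf i) _ (hN i)
  have hval : Pi.basisFun F (Expo m N) ν = coeffsAt m N (monomial ν.1 (1 : F)) := by
    funext x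
    show Pi.basisFun F (Expo m N) ν x = coeff x.1 (monomial ν.1 (1 : F))
    rw [Pi.basisFun_apply, Pi.single_apply, coeff_monomial]
    exact if_congr ⟨fun h => h ▸ rfl, fun h => (Subtype.ext h).symm⟩ rfl rfl
  rw [SetLike.mem_coe, hval, hν, map_sum]
  refine Submodule.sum_mem _ fun i _ => ?_
  rw [(homogeneousComponent (N - e i) (g i)).as_sum, Finset.sum_mul, map_sum]
  refine Submodule.sum_mem _ fun q hq => ?_
  have hdeg : q.degree = N - e i := by
    by_contra hne
    exact (mem_support_iff.mp hq) ((homogeneousComponent_isHomogeneous _ _).coeff_eq_zero hne)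
  have : coeffsAt m N (monomial q (coeff q (homogeneousComponent (N - e i) (g i))) * f i) =
      coeff q (homogeneousComponent (N - e i) (g i)) • row f e N ⟨i, ⟨q, mem_expo.mpr hdeg⟩⟩ := by
    funext x
    show coeff x.1 (monomial q (coeff q (homogeneousComponent (N - e i) (g i))) * f i) = _ * coeff x.1 _
    rw [← coeff_C_mul, ← mul_assoc, C_mul_monomial, mul_one]
  rw [this]
  exact Submodule.smul_mem _ _ (Submodule.subset_span ⟨_, rfl⟩)

end GrothLib.RegSeqGen12
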