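import Groth.Agent.Lib.RegSeqGen12.Step
import Groth.Agent.Lib.RegSeqGen12.Count
import Groth.Agent.Lib.FanoGen.Incidence

/-!
The locus of sequences of forms of degrees `1, …, d` cutting out more than the expected dimension.
-/

set_option autoImplicit false
set_option maxHeartbeats 400000

namespace GrothLib.RegSeqGen12

open MvPolynomial

universe u

variable {m d : ℕ}

/-- coordinates of sequences of forms of degrees `1, …, d` -/
abbrev SeqIdx (m d : ℕ) : Type := Σ i : Fin d, Expo m (i.1 + 1)

/-- the sequence with given coefficients -/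
noncomputable def seqOf {A : Type*} [CommRing A] (z : SeqIdx m d → A) (i : ℕ) : MvPolynomial (Fin (m + 1)) A :=
  if h : i < d then ∑ c : Expo m (i + 1), monomial c.1 (z ⟨⟨i, h⟩, c⟩) else 0

theorem seqOf_isHomogeneous {A : Type*} [CommRing A] (z : SeqIdx m d → A) (i : ℕ) :
    (seqOf z i).IsHomogeneous (i + 1) := by
  unfold seqOf
  split_ifs
  · exact IsHomogeneous.sum _ _ _ fun c _ => isHomogeneous_monomial _ (degree_expo c)
  · exact isHomogeneous_zero _ _ _

theorem coeff_seqOf {A : Type*} [CommRing A] (z : SeqIdx m d → A) {i : ℕ} (h : i < d) (c : Expo m (i + 1)) :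
    coeff c.1 (seqOf z i) = z ⟨⟨i, h⟩, c⟩ := by
  classical
  rw [seqOf, dif_pos h, coeff_sum, Finset.sum_eq_single c
    (fun b _ hb => by rw [coeff_monomial, if_neg fun h => hb (Subtype.ext h)]) (by simp), coeff_monomial, if_pos rfl]

theorem map_seqOf {A B : Type*} [CommRing A] [CommRing B] (φ : A →+* B) (z : SeqIdx m d → A) (i : ℕ) :
    map φ (seqOf z i) = seqOf (fun q => φ (z q)) i := by
  unfold seqOf
  split_ifs
  · simp [map_sum]
  · simp

/-- Good forms cut out the expected dimension. -/
theorem ringKrullDim_quotient_le_of_good {K : Type u} [Field K] [IsAlgClosed K]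
    {G : ℕ → MvPolynomial (Fin (m + 1)) K} (hG : ∀ i, (G i).IsHomogeneous (i + 1)) (h : Good G d) :
    ringKrullDim (MvPolynomial (Fin (m + 1)) K ⧸ Ideal.span (Set.range fun i : Fin d => G i.1)) ≤
      ((m + 1 - d : ℕ) : WithBot ℕ∞) := by
  obtain ⟨l, hl⟩ := exists_rational K hG h
  simp only [Algebra.algebraMap_self, RingHom.id_apply] at hl
  let J := Ideal.span (Set.range fun i : Fin d => G i.1)
  let B := MvPolynomial (Fin (m + 1)) K ⧸ J
  let x : Fin (m + 1) → B := fun c => Ideal.Quotient.mk J (X c)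
  have haev : ∀ g : MvPolynomial (Fin (m + 1)) K, aeval x g = Ideal.Quotient.mk J g := fun g => by
    have h1 : aeval x = Ideal.Quotient.mkₐ K J := algHom_ext fun c => (aeval_X x c).trans rfl
    rw [h1]
    rfl
  let A := MvPolynomial (Fin (m + 1 - d)) K
  let φ : A →ₐ[K] B := aeval fun t => aeval x (lin (l t))
  let : Algebra A B := φ.toRingHom.toAlgebra
  have hint : ∀ c, IsIntegral A (x c) := fun c => by
    refine isIntegral_of_vanish hG hl (fun a => ⟨C a, aeval_C _ a⟩) x (fun i hi => ?_)
      (fun t => ⟨X t, aeval_X (fun t => aeval x (lin (l t))) t⟩) c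
    rw [haev, Ideal.Quotient.eq_zero_iff_mem]
    exact Ideal.subset_span ⟨⟨i, hi⟩, rfl⟩
  have : Algebra.IsIntegral A B := ⟨fun b => by
    obtain ⟨g, rfl⟩ := Ideal.Quotient.mk_surjective b
    induction g using MvPolynomial.induction_on with
    | C a =>
      have : Ideal.Quotient.mk J (C a) = algebraMap A B (C a) :=
        (show φ (C a) = algebraMap K B a from aeval_C _ a).symm
      rw [this]
      exact isIntegral_algebraMap
    | add p q hp hq => rw [map_add]; exact hp.add hq
    | mul_X p c hp => rw [map_mul]; exact hp.mul (hint c)⟩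
  refine (GrothLib.Dim.ringKrullDim_le_of_isIntegral A B).trans (le_of_eq ?_)
  rw [MvPolynomial.ringKrullDim_of_isNoetherianRing, ringKrullDim_eq_zero_of_field, zero_add, Nat.card_eq_fintype_card,
    Fintype.card_fin]

/-- the coefficient coordinates on sequences of forms -/
noncomputable def seqCoords (m d : ℕ) (k : Type u) [Field k] :
    ((j : Fin d) → LefPen.Form m k (j.1 + 1)) ≃ₗ[k] (SeqIdx m d → k) :=
  (LinearEquiv.piCongrRight fun j : Fin d => GrothLib.FanoGen.coeffs (n := m) (d := j.1 + 1)).trans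
    (LinearEquiv.piCurry k (fun (j : Fin d) (_ : Expo m (j.1 + 1)) => k)).symm

theorem seqOf_seqCoords {k : Type u} [Field k] (G : (j : Fin d) → LefPen.Form m k (j.1 + 1)) {i : ℕ} (h : i < d) :
    seqOf (seqCoords m d k G) i = (G ⟨i, h⟩).1 := by
  refine eq_of_coeffsAt (seqOf_isHomogeneous _ i) (G ⟨i, h⟩).2 ?_
  funext c
  show coeff c.1 _ = coeff c.1 _
  rw [coeff_seqOf _ h]
  rfl

/-- The bad locus has codimension at least `m + 1`. -/
theorem codimGE_seqLocus {k : Type u} [Field k] [IsAlgClosed k] (hdm : d + 2 ≤ m) :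
    LefPen.CodimGE k
      {G : (j : Fin d) → LefPen.Form m k (j.1 + 1) |
        ((m + 2 - d : ℕ) : WithBot ℕ∞) ≤
          ringKrullDim (MvPolynomial (Fin (m + 1)) k ⧸ Ideal.span (Set.range fun j : Fin d => (G j).1))}
      (m + 1) := by
  classical
  refine codimGE_of (seqCoords m d k) _ _ fun p hp hpD => ?_
  obtain ⟨Ω, _, _, _, x, hker⟩ := exists_point p
  have hG : ∀ i, (seqOf x i).IsHomogeneous (i + 1) := seqOf_isHomogeneous x
  have hbad : ¬ Good (seqOf x) d := by
    intro hgood
    obtain ⟨l, N, hN, s, hs⟩ := exists_rational k hG hgood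
    let R := MvPolynomial (SeqIdx m d) k
    let F : Fin d ⊕ Fin (m + 1 - d) → MvPolynomial (Fin (m + 1)) R :=
      fam (fun i : Fin d => seqOf (fun q => (X q : R)) i.1) fun t c => C (l t c)
    have hspec : ∀ {Λ : Type u} [CommRing Λ] (ψ : R →+* Λ) (z : SeqIdx m d → Λ) (_ : ∀ q, ψ (X q) = z q),
        ψ (minor F (deg d (m + 1 - d)) N s) =
          minor (fam (fun i : Fin d => seqOf z i.1) fun t c => ψ (C (l t c))) (deg d (m + 1 - d)) N s := by
      intro Λ _ ψ z hz
      rw [map_minor, map_fam]
      congr 2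
      funext i
      rw [map_seqOf]
      simp only [hz]
    obtain ⟨f₀, hf₀⟩ : ∃ f₀ : R, f₀ = minor F (deg d (m + 1 - d)) N s := ⟨_, rfl⟩
    have hne : f₀ ∉ p := by
      have hx : ∀ q, (aeval (R := k) x).toRingHom (X q) = x q := fun q => by
        rw [AlgHom.toRingHom_eq_coe, RingHom.coe_coe, aeval_X]
      have hC : (fun (t : Fin (m + 1 - d)) (c : Fin (m + 1)) => (aeval (R := k) x).toRingHom (C (l t c))) =
          fun t c => algebraMap k Ω (l t c) := funext fun t => funext fun c => by
        rw [AlgHom.toRingHom_eq_coe, RingHom.coe_coe, aeval_C]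
      rw [← hker, RingHom.mem_ker, hf₀, hspec (aeval (R := k) x).toRingHom x hx, hC]
      exact hs
    have : ∃ G ∈ {G : (j : Fin d) → LefPen.Form m k (j.1 + 1) | ((m + 2 - d : ℕ) : WithBot ℕ∞) ≤
        ringKrullDim (MvPolynomial (Fin (m + 1)) k ⧸ Ideal.span (Set.range fun j : Fin d => (G j).1))},
        eval (seqCoords m d k G) f₀ ≠ 0 := by
      by_contra! hh
      refine hne (hpD f₀ ?_)
      intro v hv
      exact hh v hv
    obtain ⟨G, hGD, hG0⟩ := this
    rw [hf₀, hspec (eval (seqCoords m d k G)) (seqCoords m d k G) (fun q => eval_X q)] at hG0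
    have hC : (fun (t : Fin (m + 1 - d)) (c : Fin (m + 1)) => eval (seqCoords m d k G) (C (l t c))) = l :=
      funext fun t => funext fun c => by rw [eval_C]
    rw [hC] at hG0
    have hfullG : Full (fam (fun i : Fin d => seqOf (seqCoords m d k G) i.1) l) (deg d (m + 1 - d)) :=
      ⟨N, hN, s, hG0⟩
    have hgoodG : Good (seqOf (seqCoords m d k G)) d := by
      refine ⟨l, fun y hy hyl => eq_zero_of_full (A := k) (fam_isHomogeneous
        (fun i : Fin d => seqOf_isHomogeneous _ i.1) l) hfullG y ?_⟩
      rintro (i | t)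
      · simpa [fam, aeval_eq_eval] using hy i.1 i.2
      · simpa [fam, aeval_eq_eval, eval_lin] using hyl t
    have hle := ringKrullDim_quotient_le_of_good (seqOf_isHomogeneous _) hgoodG
    rw [show (fun i : Fin d => seqOf (seqCoords m d k G) i.1) = fun i => (G i).1 from
      funext fun i => seqOf_seqCoords G i.2] at hle
    have hGD' : ((m + 2 - d : ℕ) : WithBot ℕ∞) ≤ _ := hGD
    have := hGD'.trans hle
    have : m + 2 - d ≤ m + 1 - d := by exact_mod_cast this
    omega
  obtain ⟨j, hjd, h1, h2⟩ : ∃ j, j < d ∧ Good (seqOf x) j ∧ ¬ Good (seqOf x) (j + 1) := by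
    by_contra! hh
    exact hbad (by
      have : ∀ j, j ≤ d → Good (seqOf x) j := fun j => by
        induction j with
        | zero => exact fun _ => good_zero _
        | succ j ih => exact fun hj => hh j (by omega) (ih (by omega))
      exact this d le_rfl)
  obtain ⟨S, hcard, hS⟩ := exists_dependent k hG (by omega : j + 1 ≤ m) h1 h2
  let e : Expo m (j + 1) → SeqIdx m d := fun c => ⟨⟨j, hjd⟩, c⟩
  have he : Function.Injective e := fun a b h => eq_of_heq (Sigma.mk.inj_iff.mp h).2
  let T : Finset Ω := (Finset.univ \ S.image e).image x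
  rw [← hker]
  refine le_height_ker x T (m + 1) ?_ ?_
  · have h3 : (Finset.univ \ S.image e).card = Fintype.card (SeqIdx m d) - (m + 1) := by
      rw [Finset.card_univ_sdiff, Finset.card_image_of_injective _ he, hcard]
    have h4 : m + 1 ≤ Fintype.card (SeqIdx m d) :=
      (le_of_eq ((Finset.card_image_of_injective S he).trans hcard).symm).trans (Finset.card_le_univ _)
    have := Finset.card_image_le (s := Finset.univ \ S.image e) (f := x)
    show T.card + _ ≤ _
    simp only [T]
    omega
  · have hmem : ∀ q, q ∉ S.image e → x q ∈ closureOf k (T : Set Ω) := fun q hq =>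
      subset_closureOf (Finset.mem_coe.mpr (Finset.mem_image_of_mem x (Finset.mem_sdiff.mpr ⟨Finset.mem_univ q, hq⟩)))
    intro q
    by_cases hq : q ∈ S.image e
    · obtain ⟨c, hc, rfl⟩ := Finset.mem_image.mp hq
      show x ⟨⟨j, hjd⟩, c⟩ ∈ _
      rw [← coeff_seqOf x hjd c]
      refine hS _ (fun y hy => mem_closureOf_of_isAlgebraic hy) (fun i hi a => ?_) (fun c' hc' => ?_) c hc
      · by_cases ha : a.degree = i + 1
        · rw [show a = (⟨a, mem_expo.mpr ha⟩ : Expo m (i + 1)).1 from rfl, coeff_seqOf x (hi.trans hjd)]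
          refine hmem _ fun hmem' => ?_
          obtain ⟨c₀, -, hc₀⟩ := Finset.mem_image.mp hmem'
          have := congrArg (fun q : SeqIdx m d => q.1.1) hc₀
          simp only [e] at this
          omega
        · rw [(hG i).coeff_eq_zero ha]
          exact zero_mem _
      · rw [coeff_seqOf x hjd]
        refine hmem _ fun h' => ?_
        obtain ⟨c₀, hc₀, hc₀'⟩ := Finset.mem_image.mp h'
        exact hc' (he hc₀' ▸ hc₀)
    · exact hmem q hq

end GrothLib.RegSeqGen12
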