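import Groth.Agent.Lib.RegSeqGen12.Finite

/-!
Sequences of forms of degrees `1, 2, …`: the coefficient dependencies forced by a drop in dimension.
-/

set_option autoImplicit false

namespace GrothLib.RegSeqGen12

open MvPolynomial

universe u v

variable {k : Type u} [Field k] {K : Type v} [Field K] [Algebra k K] {m : ℕ}

/-- the linear form with given coefficients -/
noncomputable def lin {A : Type*} [CommRing A] (l : Fin (m + 1) → A) : MvPolynomial (Fin (m + 1)) A :=
  ∑ c, C (l c) * X c

theorem lin_isHomogeneous {A : Type*} [CommRing A] (l : Fin (m + 1) → A) : (lin l).IsHomogeneous 1 :=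
  IsHomogeneous.sum _ _ _ fun c _ => isHomogeneous_C_mul_X _ c

theorem map_lin {A B : Type*} [CommRing A] [CommRing B] (φ : A →+* B) (l : Fin (m + 1) → A) :
    map φ (lin l) = lin fun c => φ (l c) := by
  simp [lin, map_sum]

theorem eval_lin {A : Type*} [CommRing A] (l x : Fin (m + 1) → A) : eval x (lin l) = ∑ c, l c * x c := by
  simp [lin, map_sum]

/-- the first `j` forms followed by linear forms -/
noncomputable def fam {A : Type*} [CommRing A] {j r : ℕ} (G : Fin j → MvPolynomial (Fin (m + 1)) A)
    (l : Fin r → Fin (m + 1) → A) : Fin j ⊕ Fin r → MvPolynomial (Fin (m + 1)) A :=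
  Sum.elim G fun t => lin (l t)

/-- their degrees -/
def deg (j r : ℕ) : Fin j ⊕ Fin r → ℕ := Sum.elim (fun i => i.1 + 1) fun _ => 1

theorem one_le_deg (j r : ℕ) (i : Fin j ⊕ Fin r) : 1 ≤ deg j r i := by
  cases i <;> simp [deg]

theorem fam_isHomogeneous {A : Type*} [CommRing A] {j r : ℕ} {G : Fin j → MvPolynomial (Fin (m + 1)) A}
    (hG : ∀ i, (G i).IsHomogeneous (i.1 + 1)) (l : Fin r → Fin (m + 1) → A) :
    ∀ i, (fam G l i).IsHomogeneous (deg j r i) := by
  rintro (i | t)
  · exact hG i
  · exact lin_isHomogeneous _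

theorem map_fam {A B : Type*} [CommRing A] [CommRing B] (φ : A →+* B) {j r : ℕ}
    (G : Fin j → MvPolynomial (Fin (m + 1)) A) (l : Fin r → Fin (m + 1) → A) :
    (fun i => map φ (fam G l i)) = fam (fun i => map φ (G i)) fun t c => φ (l t c) := by
  funext i
  rcases i with i | t
  · rfl
  · exact map_lin φ (l t)

/-- The first `j` forms cut out a set of the expected dimension: they have no common nonzero zero with some
`m + 1 - j` linear forms. -/
def Good (G : ℕ → MvPolynomial (Fin (m + 1)) K) (j : ℕ) : Prop :=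
  ∃ l : Fin (m + 1 - j) → Fin (m + 1) → K,
    ∀ x : Fin (m + 1) → K, (∀ i, i < j → eval x (G i) = 0) → (∀ t, ∑ c, l t c * x c = 0) → x = 0

theorem good_zero (G : ℕ → MvPolynomial (Fin (m + 1)) K) : Good G 0 := by
  classical
  refine ⟨fun t c => if t.1 = c.1 then 1 else 0, fun x _ h => funext fun c => ?_⟩
  have := h ⟨c.1, by omega⟩
  simp only [ite_mul, one_mul, zero_mul] at this
  rw [Finset.sum_eq_single c (fun b _ hb => if_neg fun h => hb (Fin.ext h.symm)) (by simp)] at this
  simpa using this

variable (k) in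
/-- the linear forms may be taken rational over an infinite subfield -/
theorem exists_rational [Infinite k] [IsAlgClosed K] {G : ℕ → MvPolynomial (Fin (m + 1)) K}
    (hG : ∀ i, (G i).IsHomogeneous (i + 1)) {j : ℕ} (h : Good G j) :
    ∃ l : Fin (m + 1 - j) → Fin (m + 1) → k,
      Full (fam (fun i : Fin j => G i.1) fun t c => algebraMap k K (l t c)) (deg j (m + 1 - j)) := by
  classical
  obtain ⟨l, hl⟩ := h
  obtain ⟨N, hN, s, hs⟩ := full_of_noZero (fam_isHomogeneous (fun i : Fin j => hG i.1) l) (fun x hx =>
    hl x (fun i hi => hx (Sum.inl ⟨i, hi⟩)) fun t => by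
      have := hx (Sum.inr t)
      rwa [fam, Sum.elim_inr, eval_lin] at this)
  let P := MvPolynomial (Fin (m + 1 - j) × Fin (m + 1)) K
  let F : Fin j ⊕ Fin (m + 1 - j) → MvPolynomial (Fin (m + 1)) P :=
    fam (fun i : Fin j => map (C : K →+* P) (G i.1)) fun t c => X (t, c)
  let D : P := minor F (deg j (m + 1 - j)) N s
  have hspec : ∀ y : Fin (m + 1 - j) × Fin (m + 1) → K, eval y D =
      minor (fam (fun i : Fin j => G i.1) fun t c => y (t, c)) (deg j (m + 1 - j)) N s := fun y => by
    rw [map_minor]
    congr 1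
    rw [map_fam]
    congr 1
    · funext i
      rw [map_map, show (eval y).comp (C : K →+* P) = RingHom.id K from RingHom.ext fun a => eval_C a, map_id]
    · funext t c
      rw [eval_X]
  have hD : D ≠ 0 := fun h => hs (by
    have := hspec fun q => l q.1 q.2
    rw [h, map_zero] at this
    exact this.symm)
  obtain ⟨y, hy, hne⟩ : ∃ y : Fin (m + 1 - j) × Fin (m + 1) → K,
      (∀ q, y q ∈ Set.range (algebraMap k K)) ∧ eval y D ≠ 0 := by
    by_contra! hh
    refine hD (funext_set (fun _ => Set.range (algebraMap k K))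
      (fun _ => Set.infinite_range_of_injective (algebraMap k K).injective) fun x hx => ?_)
    rw [map_zero]
    exact hh x fun q => hx q trivial
  choose y₀ hy₀ using hy
  refine ⟨fun t c => y₀ (t, c), N, hN, s, ?_⟩
  rw [hspec] at hne
  simpa only [hy₀] using hne

omit [Field k] [Algebra k K] in
/-- Good forms define a ring finite over the values of the linear forms. -/
theorem isIntegral_of_vanish {j : ℕ} {G : ℕ → MvPolynomial (Fin (m + 1)) K}
    (hG : ∀ i, (G i).IsHomogeneous (i + 1)) {r : ℕ} {l : Fin r → Fin (m + 1) → K}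
    (hfull : Full (fam (fun i : Fin j => G i.1) l) (deg j r)) {A B : Type*} [CommRing A] [CommRing B]
    [Algebra K B] [Algebra A B] (hK : ∀ a : K, algebraMap K B a ∈ (algebraMap A B).range)
    (x : Fin (m + 1) → B) (hx : ∀ i, i < j → aeval x (G i) = 0)
    (hl : ∀ t, aeval x (lin (l t)) ∈ (algebraMap A B).range) (c : Fin (m + 1)) : IsIntegral A (x c) := by
  refine isIntegral_of_full (fam_isHomogeneous (fun i : Fin j => hG i.1) l) (one_le_deg j r) hfull hK x ?_ c
  rintro (i | t)
  · exact ⟨0, by rw [map_zero]; exact (hx i.1 i.2).symm⟩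
  · exact hl t

section Step

/-- distinct monomials of degree `e` in `r` variables -/
noncomputable def expOf {r : ℕ} (hr : 2 ≤ r) (e : ℕ) (u : Fin (r + e - 1)) : Fin r →₀ ℕ :=
  if h : u.1 ≤ e then Finsupp.single ⟨0, by omega⟩ (e - u.1) + Finsupp.single ⟨1, by omega⟩ u.1
  else Finsupp.single ⟨0, by omega⟩ (e - 1) + Finsupp.single ⟨u.1 - e + 1, by have := u.2; omega⟩ 1

theorem degree_expOf {r : ℕ} (hr : 2 ≤ r) {e : ℕ} (he : 1 ≤ e) (u : Fin (r + e - 1)) :
    (expOf hr e u).degree = e := by
  unfold expOf
  split_ifs with h <;> rw [map_add, Finsupp.degree_single, Finsupp.degree_single] <;> omega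

theorem expOf_injective {r : ℕ} (hr : 2 ≤ r) {e : ℕ} : Function.Injective (expOf hr e) := by
  intro u v h
  apply Fin.ext
  unfold expOf at h
  split_ifs at h with hu hv hv
  · have := congr($h ⟨1, by omega⟩)
    simp only [Finsupp.add_apply, Finsupp.single_apply, Fin.ext_iff] at this
    split_ifs at this <;> first | contradiction | omega
  · exfalso
    have := congr($h ⟨v.1 - e + 1, by have := v.2; omega⟩)
    simp only [Finsupp.add_apply, Finsupp.single_apply, Fin.ext_iff] at this
    split_ifs at this <;> first | contradiction | omega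
  · exfalso
    have := congr($h ⟨u.1 - e + 1, by have := u.2; omega⟩)
    simp only [Finsupp.add_apply, Finsupp.single_apply, Fin.ext_iff] at this
    split_ifs at this <;> first | contradiction | omega
  · have := congr($h ⟨u.1 - e + 1, by have := u.2; omega⟩)
    simp only [Finsupp.add_apply, Finsupp.single_apply, Fin.ext_iff] at this
    split_ifs at this <;> first | contradiction | omega

/-- independent monomials have a nonsingular matrix of values -/
theorem exists_points {F : Type*} [Field F] [Infinite F] {σ M : Type*} [Fintype M] [DecidableEq M]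
    (α : M → σ →₀ ℕ) (hα : Function.Injective α) :
    ∃ t : M → σ → F, (Matrix.of fun s u => eval (t s) (monomial (α u) (1 : F))).det ≠ 0 := by
  classical
  refine exists_det_ne_zero (fun t : σ → F => fun u => eval t (monomial (α u) (1 : F))) ?_
  by_contra hcon
  obtain ⟨φ, hφ, hker⟩ := Submodule.exists_le_ker_of_lt_top _ (lt_top_iff_ne_top.mpr hcon)
  refine hφ (LinearMap.ext fun y => ?_)
  have hzero : ∑ u, monomial (α u) (φ (Pi.single u 1)) = (0 : MvPolynomial σ F) := by
    refine MvPolynomial.funext fun t => ?_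
    have h1 := LinearMap.mem_ker.mp (hker (Submodule.subset_span ⟨t, rfl⟩))
    rw [map_zero, map_sum, ← h1]
    beta_reduce
    have h2 : (fun u => eval t (monomial (α u) (1 : F))) =
        ∑ u, eval t (monomial (α u) (1 : F)) • (Pi.single u (1 : F) : M → F) := pi_eq_sum_univ' _
    conv_rhs => rw [h2, map_sum]
    refine Finset.sum_congr rfl fun u _ => ?_
    rw [map_smul, smul_eq_mul, eval_monomial, eval_monomial, one_mul, mul_comm]
  have hcoef : ∀ u, φ (Pi.single u 1) = 0 := fun u => by
    have := congrArg (coeff (α u)) hzero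
    rw [coeff_sum, Finset.sum_eq_single u (fun b _ hb => by rw [coeff_monomial, if_neg fun h => hb (hα h)])
      (by simp), coeff_monomial, if_pos rfl] at this
    simpa using this
  rw [LinearMap.zero_apply, pi_eq_sum_univ' y, map_sum]
  exact Finset.sum_eq_zero fun u _ => by rw [map_smul, hcoef, smul_zero]

variable [Infinite k] [IsAlgClosed K]

variable (k) in
/-- If the dimension drops at step `j`, then `m + 1` coefficients of the form of degree `j + 1` are algebraic
over the rest. -/
theorem exists_dependent {G : ℕ → MvPolynomial (Fin (m + 1)) K} (hG : ∀ i, (G i).IsHomogeneous (i + 1))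
    {j : ℕ} (hj : j + 1 ≤ m) (h1 : Good G j) (h2 : ¬ Good G (j + 1)) :
    ∃ S : Finset (Expo m (j + 1)), S.card = m + 1 ∧ ∀ L : IntermediateField k K,
      (∀ y : K, IsAlgebraic L y → y ∈ L) → (∀ i, i < j → ∀ c, coeff c (G i) ∈ L) →
      (∀ c, c ∉ S → coeff c.1 (G j) ∈ L) → ∀ c ∈ S, coeff c.1 (G j) ∈ L := by
  classical
  obtain ⟨l, hl⟩ := exists_rational k hG h1
  let lK : Fin (m + 1 - j) → Fin (m + 1) → K := fun t c => algebraMap k K (l t c)
  have hnz : ∀ x : Fin (m + 1) → K, (∀ i, i < j → eval x (G i) = 0) → (∀ t, eval x (lin (lK t)) = 0) → x = 0 :=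
    fun x hx hxl => eq_zero_of_full (fam_isHomogeneous (fun i : Fin j => hG i.1) lK) hl x (by
      rintro (i | t)
      · simpa [fam, aeval_eq_eval] using hx i.1 i.2
      · simpa [fam, aeval_eq_eval] using hxl t)
  have hlift : ∀ t : Fin (m + 1 - j) → k, t ≠ 0 → ∃ p : Fin (m + 1) → K,
      (∀ i, i ≤ j → eval p (G i) = 0) ∧ ∀ q, eval p (lin (lK q)) = algebraMap k K (t q) := by
    intro t ht
    obtain ⟨i0, hi0⟩ : ∃ i0, t i0 ≠ 0 := Function.ne_iff.mp ht
    obtain ⟨r', hr'⟩ : ∃ r', m + 1 - j = r' + 1 := ⟨m - j, by omega⟩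
    have hrj : m + 1 - (j + 1) = r' := by omega
    let emb : Fin (m + 1 - (j + 1)) → Fin (m + 1 - j) :=
      fun q => Fin.cast hr'.symm ((Fin.cast hr' i0).succAbove (Fin.cast hrj q))
    have hemb : ∀ q, q ≠ i0 → ∃ q', emb q' = q := fun q hq => by
      obtain ⟨z, hz⟩ := Fin.exists_succAbove_eq (show Fin.cast hr' q ≠ Fin.cast hr' i0 from
        fun h => hq (Fin.cast_injective _ h))
      exact ⟨Fin.cast hrj.symm z, by simp only [emb, Fin.cast_cast, Fin.cast_eq_self, hz]⟩
    let a : Fin (m + 1 - j) → K := fun q => algebraMap k K (t q)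
    have ha : a i0 ≠ 0 := (map_ne_zero _).mpr hi0
    let l' : Fin (m + 1 - (j + 1)) → Fin (m + 1) → K := fun q c => lK (emb q) c - a (emb q) / a i0 * lK i0 c
    obtain ⟨p, hpG, hpl, hp⟩ : ∃ p : Fin (m + 1) → K, (∀ i, i < j + 1 → eval p (G i) = 0) ∧
        (∀ q, ∑ c, l' q c * p c = 0) ∧ p ≠ 0 := by
      by_contra! hh
      exact h2 ⟨l', fun x hx hxl => hh x hx hxl⟩
    let y : Fin (m + 1 - j) → K := fun q => eval p (lin (lK q))
    have hy : ∀ q, y q = a q / a i0 * y i0 := fun q => by
      rcases eq_or_ne q i0 with rfl | hq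
      · rw [div_self ha, one_mul]
      · obtain ⟨q', rfl⟩ := hemb q hq
        have := hpl q'
        simp only [l', sub_mul, Finset.sum_sub_distrib, mul_assoc, ← Finset.mul_sum, sub_eq_zero] at this
        simpa only [y, eval_lin] using this
    have hy0 : y i0 ≠ 0 := fun h0 => hp (hnz p (fun i hi => hpG i (Nat.lt_succ_of_lt hi))
      fun q => by show y q = 0; rw [hy q, h0, mul_zero])
    refine ⟨fun c => a i0 / y i0 * p c, fun i hi => ?_, fun q => ?_⟩
    · rw [← aeval_eq_eval, eval_smul_of_isHomogeneous (hG i), aeval_eq_eval]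
      simp [hpG i (Nat.lt_succ_of_le hi)]
    · have hqy : eval p (lin (lK q)) = a q / a i0 * y i0 := hy q
      rw [← aeval_eq_eval, eval_smul_of_isHomogeneous (lin_isHomogeneous _), pow_one, aeval_eq_eval, hqy]
      field_simp
      rfl
  have hr : 2 ≤ m + 1 - j := by omega
  have hcard : m + 1 - j + (j + 1) - 1 = m + 1 := by omega
  let α : Fin (m + 1) → Fin (m + 1 - j) →₀ ℕ := fun u => expOf hr (j + 1) (Fin.cast hcard.symm u)
  obtain ⟨t, ht⟩ := exists_points (F := k) α ((expOf_injective hr).comp (Fin.cast_injective _))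
  have htne : ∀ s, t s ≠ 0 := fun s h0 => ht (Matrix.det_eq_zero_of_row_eq_zero s fun u => by
    rw [Matrix.of_apply, ← aeval_eq_eval]
    have := eval_smul_of_isHomogeneous (isHomogeneous_monomial (1 : k) (degree_expOf hr (show 1 ≤ j + 1 by omega)
      (Fin.cast hcard.symm u))) (0 : k) (t s)
    rw [zero_pow (by omega), zero_mul] at this
    refine Eq.trans ?_ this
    congr
    funext c
    simp [h0])
  choose p hpG hpl using fun s => hlift (t s) (htne s)
  let W : Expo m (j + 1) → Fin (m + 1) → K := fun c s => eval (p s) (monomial c.1 (1 : K))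
  let H : Fin (m + 1) → MvPolynomial (Fin (m + 1)) K := fun u => aeval (fun q => lin (lK q)) (monomial (α u) (1 : K))
  have hH : ∀ u, (H u).IsHomogeneous (j + 1) := fun u => by
    have := (isHomogeneous_monomial (1 : K) (degree_expOf hr (show 1 ≤ j + 1 by omega)
      (Fin.cast hcard.symm u))).aeval (fun q => lin (lK q)) (n := 1) fun q => lin_isHomogeneous _
    rwa [one_mul] at this
  have hexp : ∀ (g : MvPolynomial (Fin (m + 1)) K), g.IsHomogeneous (j + 1) → ∀ x,
      eval x g = ∑ c : Expo m (j + 1), coeff c.1 g * eval x (monomial c.1 (1 : K)) := by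
    intro g hg x
    have : g = ∑ c : Expo m (j + 1), monomial c.1 (coeff c.1 g) := by
      refine eq_of_coeffsAt hg (IsHomogeneous.sum _ _ _ fun c _ => isHomogeneous_monomial _ (degree_expo c)) ?_
      funext c
      show coeff c.1 g = coeff c.1 _
      rw [coeff_sum, Finset.sum_eq_single c (fun b _ hb => by rw [coeff_monomial, if_neg fun h => hb (Subtype.ext h)])
        (by simp), coeff_monomial, if_pos rfl]
    conv_lhs => rw [this, map_sum]
    refine Finset.sum_congr rfl fun c _ => ?_
    rw [eval_monomial, eval_monomial, one_mul]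
  have hevH : ∀ u s, eval (p s) (H u) = algebraMap k K (eval (t s) (monomial (α u) (1 : k))) := by
    intro u s
    have h3 : eval (p s) (H u) = eval (fun q => eval (p s) (lin (lK q))) (monomial (α u) (1 : K)) := by
      simp only [H, aeval_monomial, map_one, one_mul, eval_monomial, Finsupp.prod, map_prod, map_pow]
    simp only [h3, hpl, eval_monomial, one_mul, Finsupp.prod, map_prod, map_pow]
  have hspan : Submodule.span K (Set.range W) = ⊤ := by
    refine eq_top_iff.mpr fun y _ => ?_
    let Q : Matrix (Fin (m + 1)) (Fin (m + 1)) K := Matrix.of fun s u => eval (p s) (H u)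
    have hQ : Q = (Matrix.of fun s u => eval (t s) (monomial (α u) (1 : k))).map (algebraMap k K) := by
      ext s u; exact hevH u s
    have hdet : Q.det ≠ 0 := by
      rw [hQ, ← RingHom.mapMatrix_apply, ← RingHom.map_det]
      exact (map_ne_zero _).mpr ht
    obtain ⟨z, hz⟩ := (Matrix.mulVec_surjective_iff_isUnit.mpr
      ((Matrix.isUnit_iff_isUnit_det _).mpr (isUnit_iff_ne_zero.mpr hdet)) : Function.Surjective Q.mulVec) y
    have : y = ∑ c : Expo m (j + 1), (∑ u, coeff c.1 (H u) * z u) • W c := by
      funext s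
      rw [← hz]
      simp only [Matrix.mulVec, dotProduct, Finset.sum_apply, Pi.smul_apply, smul_eq_mul, Q, Matrix.of_apply]
      simp only [hexp _ (hH _), Finset.sum_mul]
      rw [Finset.sum_comm]
      exact Finset.sum_congr rfl fun c _ => Finset.sum_congr rfl fun u _ => by simp only [W]; ring
    rw [this]
    exact Submodule.sum_mem _ fun c _ => Submodule.smul_mem _ _ (Submodule.subset_span ⟨c, rfl⟩)
  obtain ⟨sel, hsel⟩ := exists_det_ne_zero W hspan
  have hinj : Function.Injective sel := fun u u' huu => by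
    by_contra hne
    exact hsel (Matrix.det_zero_of_row_eq hne (by funext s; simp [huu]))
  refine ⟨Finset.univ.image sel, by rw [Finset.card_image_of_injective _ hinj, Finset.card_univ, Fintype.card_fin],
    fun L hL hcoef hrest => ?_⟩
  -- the lifted points have coordinates in `L`
  have hp : ∀ s c, p s c ∈ L := by
    intro s c
    have hG' : ∀ i : Fin j, ∃ g : MvPolynomial (Fin (m + 1)) L, map L.val.toRingHom g = G i.1 := fun i => by
      refine RingHom.mem_range.mp (mem_range_map_iff_coeffs_subset.mpr fun a ha => ?_)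
      obtain ⟨q, -, rfl⟩ := mem_coeffs_iff.mp ha
      exact ⟨⟨_, hcoef i.1 i.2 q⟩, rfl⟩
    choose G' hG'' using hG'
    have hfamhom : ∀ i, (fam G' (fun q c => algebraMap k L (l q c)) i).IsHomogeneous (deg j (m + 1 - j) i) :=
      fam_isHomogeneous (fun i => IsHomogeneous.of_map L.val.toRingHom.injective (by rw [hG'']; exact hG i.1)) _
    have hmap : (fun i => map L.val.toRingHom (fam G' (fun q c => algebraMap k L (l q c)) i)) =
        fam (fun i : Fin j => G i.1) lK := by
      rw [map_fam]
      simp only [hG'']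
      rfl
    have hfull : Full (fam G' fun q c => algebraMap k L (l q c)) (deg j (m + 1 - j)) := by
      obtain ⟨N, hN, s', hs'⟩ := hl
      refine ⟨N, hN, s', fun h0 => hs' ?_⟩
      rw [show (fam (fun i : Fin j => G i.1) fun t c => algebraMap k K (l t c)) = _ from hmap.symm, ← map_minor, h0, map_zero]
    have hint : IsIntegral L (p s c) := by
      refine isIntegral_of_full (A := L) hfamhom (one_le_deg _ _) hfull (fun a => ⟨a, rfl⟩) (p s) ?_ c
      intro i
      have hev : aeval (p s) (fam G' (fun q c => algebraMap k L (l q c)) i) =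
          eval (p s) (fam (fun i : Fin j => G i.1) lK i) := by
        rw [← hmap, eval_map, aeval_def]
        rfl
      rw [hev]
      rcases i with i | q
      · exact ⟨0, by rw [map_zero]; exact (hpG s i.1 i.2.le).symm⟩
      · exact ⟨algebraMap k L (t s q), by rw [← IsScalarTower.algebraMap_apply]; exact (hpl s q).symm⟩
    exact hL _ hint.isAlgebraic
  have hW : ∀ c s, W c s ∈ L := fun c s => by
    simp only [W, eval_monomial, one_mul]
    exact prod_mem fun i _ => pow_mem (hp s i) _
  intro c hc
  obtain ⟨u, -, rfl⟩ := Finset.mem_image.mp hc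
  let M' : Matrix (Fin (m + 1)) (Fin (m + 1)) L := Matrix.of fun s u => ⟨W (sel u) s, hW _ _⟩
  let M : Matrix (Fin (m + 1)) (Fin (m + 1)) K := M'.map L.val
  have hMdet : M.det ≠ 0 := by
    rw [← Matrix.det_transpose]
    exact hsel
  let b : Fin (m + 1) → K := fun u => coeff (sel u).1 (G j)
  have hrhs : ∀ s, M.mulVec b s ∈ L := by
    intro s
    have h0 := hexp (G j) (hG j) (p s)
    rw [hpG s j le_rfl, ← Finset.sum_add_sum_compl (Finset.univ.image sel),
      Finset.sum_image hinj.injOn] at h0
    have hsum : M.mulVec b s = ∑ u, coeff (sel u).1 (G j) * eval (p s) (monomial (sel u).1 (1 : K)) := by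
      show ∑ u, M s u * b u = _
      exact Finset.sum_congr rfl fun u _ => mul_comm _ _
    rw [hsum, eq_neg_of_add_eq_zero_left h0.symm]
    exact neg_mem (sum_mem fun c hc => mul_mem (hrest c (Finset.mem_compl.mp hc)) (hW c s))
  have hadj : ∀ u s, M.adjugate u s ∈ L := fun u s => by
    have : M.adjugate = M'.adjugate.map L.val := by
      simp only [M]
      exact (RingHom.map_adjugate L.val.toRingHom M').symm
    rw [this]
    exact (M'.adjugate u s).2
  have hsolve : M.det * b u = ∑ s, M.adjugate u s * M.mulVec b s := by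
    have := congrFun (Matrix.mulVec_mulVec b M.adjugate M) u
    rw [Matrix.adjugate_mul, Matrix.smul_mulVec, Matrix.one_mulVec] at this
    exact this.symm
  have hdetL : M.det ∈ L := by
    have : M.det = L.val M'.det := (RingHom.map_det L.val.toRingHom M').symm
    rw [this]
    exact (M'.det).2
  rw [show coeff (sel u).1 (G j) = M.det⁻¹ * (M.det * b u) by rw [inv_mul_cancel_left₀ hMdet]]
  refine mul_mem (inv_mem hdetL) ?_
  rw [hsolve]
  exact sum_mem fun s _ => mul_mem (hadj u s) (hrhs s)

end Step

end GrothLib.RegSeqGen12
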